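import Groth.Agent.Lib.Diff16.Exists
import Mathlib.RingTheory.Etale.Kaehler
import Mathlib.RingTheory.RingHom.Etale
import Mathlib.RingTheory.Kaehler.TensorProduct
import Mathlib.LinearAlgebra.Matrix.ToLin
import Mathlib.RingTheory.Smooth.Basic

/-!
# Étale coordinates
-/

set_option autoImplicit false
set_option linter.style.haveILetI false

universe u

open MvPolynomial TensorProduct

noncomputable section

namespace Groth.Agent.NodalEtale14

variable {A P : Type u} [CommRing A] [CommRing P] [Algebra A P] {n : ℕ}

variable (A) in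
/-- The elements `z` define an étale map to affine space over `A`. -/
def EtCoord (z : Fin n → P) : Prop :=
  (aeval z : MvPolynomial (Fin n) A →ₐ[A] P).toRingHom.Etale

variable {z : Fin n → P}

/-- A derivation is determined by its values on étale coordinates. -/
theorem EtCoord.deriv_ext (hz : EtCoord A z) {M : Type*} [AddCommGroup M] [Module P M] [Module A M]
    [IsScalarTower A P M] {d₁ d₂ : Derivation A P M} (h : ∀ i, d₁ (z i) = d₂ (z i)) : d₁ = d₂ := by
  letI : Algebra (MvPolynomial (Fin n) A) P := (aeval z : MvPolynomial (Fin n) A →ₐ[A] P).toRingHom.toAlgebra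
  haveI : Algebra.Etale (MvPolynomial (Fin n) A) P := hz
  letI : Module (MvPolynomial (Fin n) A) M := Module.compHom M (algebraMap (MvPolynomial (Fin n) A) P)
  haveI : IsScalarTower (MvPolynomial (Fin n) A) P M := IsScalarTower.of_algebraMap_smul fun r x => rfl
  let d := d₁ - d₂
  have hd : ∀ p : MvPolynomial (Fin n) A, d (aeval z p) = 0 := by
    intro p
    induction p using MvPolynomial.induction_on with
    | C a => rw [aeval_C]; exact d.map_algebraMap a
    | add p q hp hq => rw [map_add, map_add, hp, hq, add_zero]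
    | mul_X p i hp =>
      rw [map_mul, aeval_X, d.leibniz, hp, show d (z i) = 0 by simp [d, h i]]
      simp
  let L : P →ₗ[MvPolynomial (Fin n) A] M :=
    { toFun := d
      map_add' := map_add d
      map_smul' := fun c x => by
        show d (aeval z c * x) = aeval z c • d x
        rw [d.leibniz, hd]
        simp }
  let d' : Derivation (MvPolynomial (Fin n) A) P M :=
    Derivation.mk' L fun x y => d.leibniz x y
  have h0 : ∀ x, d' x = 0 := fun x => by
    rw [← d'.liftKaehlerDifferential_comp_D x, Subsingleton.elim (KaehlerDifferential.D _ P x) 0, map_zero]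
  exact Derivation.ext fun x => sub_eq_zero.1 (h0 x)

/-- The differentials of étale coordinates form a basis. -/
theorem EtCoord.exists_basis (hz : EtCoord A z) :
    ∃ b : Module.Basis (Fin n) P (Ω[P⁄A]), ∀ i, b i = KaehlerDifferential.D A P (z i) := by
  letI : Algebra (MvPolynomial (Fin n) A) P := (aeval z : MvPolynomial (Fin n) A →ₐ[A] P).toRingHom.toAlgebra
  haveI : IsScalarTower A (MvPolynomial (Fin n) A) P := IsScalarTower.of_algebraMap_eq fun a =>
    ((aeval z : MvPolynomial (Fin n) A →ₐ[A] P).commutes a).symm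
  haveI : Algebra.Etale (MvPolynomial (Fin n) A) P := hz
  refine ⟨((KaehlerDifferential.mvPolynomialBasis A (Fin n)).baseChange P).map
    (KaehlerDifferential.tensorKaehlerEquivOfFormallyEtale A (MvPolynomial (Fin n) A) P), fun i => ?_⟩
  simp [RingHom.algebraMap_toAlgebra]

/-- The partial derivatives of étale coordinates. -/
theorem EtCoord.exists_deriv (hz : EtCoord A z) :
    ∃ pd : Fin n → Derivation A P P, ∀ i j, pd i (z j) = if i = j then 1 else 0 := by
  obtain ⟨b, hb⟩ := hz.exists_basis
  refine ⟨fun i => (b.coord i).compDer (KaehlerDifferential.D A P), fun i j => ?_⟩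
  show b.coord i (KaehlerDifferential.D A P (z j)) = _
  rw [← hb j, Module.Basis.coord_apply, Module.Basis.repr_self, Finsupp.single_apply]
  simp [eq_comm]

/-- Every derivation is a combination of the partial derivatives. -/
theorem EtCoord.expand (hz : EtCoord A z) {pd : Fin n → Derivation A P P}
    (hpd : ∀ i j, pd i (z j) = if i = j then 1 else 0) {M : Type*} [AddCommGroup M] [Module P M] [Module A M]
    [IsScalarTower A P M] (d : Derivation A P M) (x : P) : d x = ∑ i, pd i x • d (z i) := by
  let d' : Derivation A P M := ∑ i, (LinearMap.toSpanSingleton P M (d (z i))).compDer (pd i)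
  have hd' : ∀ y, d' y = ∑ i, pd i y • d (z i) := fun y => by
    simp only [d']
    rw [← Derivation.coeFnAddMonoidHom_apply, map_sum, Finset.sum_apply]
    rfl
  have : d = d' := hz.deriv_ext fun j => by
    rw [hd', Finset.sum_eq_single j]
    · simp [hpd]
    · intro i _ hij; simp [hpd, hij]
    · simp
  rw [← hd', ← this]

/-- Elements whose differentials form a basis of a smooth algebra are étale coordinates. -/
theorem etCoord_of_basis [Algebra.Smooth A P] (b : Module.Basis (Fin n) P (Ω[P⁄A]))
    (hb : ∀ i, b i = KaehlerDifferential.D A P (z i)) : EtCoord A z := by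
  letI : Algebra (MvPolynomial (Fin n) A) P := (aeval z : MvPolynomial (Fin n) A →ₐ[A] P).toRingHom.toAlgebra
  haveI : IsScalarTower A (MvPolynomial (Fin n) A) P := IsScalarTower.of_algebraMap_eq fun a =>
    ((aeval z : MvPolynomial (Fin n) A →ₐ[A] P).commutes a).symm
  haveI := DiffOps.formallyEtale_of_basis z b hb (fun i => aeval_X z i)
  haveI : Algebra.FinitePresentation (MvPolynomial (Fin n) A) P :=
    Algebra.FinitePresentation.of_restrict_scalars_finitePresentation A _ _
  exact (⟨inferInstance, inferInstance⟩ : Algebra.Etale (MvPolynomial (Fin n) A) P)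

theorem EtCoord.smooth (hz : EtCoord A z) : Algebra.Smooth A P := by
  letI : Algebra (MvPolynomial (Fin n) A) P := (aeval z : MvPolynomial (Fin n) A →ₐ[A] P).toRingHom.toAlgebra
  haveI : IsScalarTower A (MvPolynomial (Fin n) A) P := IsScalarTower.of_algebraMap_eq fun a =>
    ((aeval z : MvPolynomial (Fin n) A →ₐ[A] P).commutes a).symm
  haveI : Algebra.Etale (MvPolynomial (Fin n) A) P := hz
  haveI : Algebra.Smooth A (MvPolynomial (Fin n) A) := ⟨inferInstance, inferInstance⟩
  exact Algebra.Smooth.comp A (MvPolynomial (Fin n) A) P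

/-- The Jacobian criterion. -/
theorem EtCoord.of_det (hz : EtCoord A z) {pd : Fin n → Derivation A P P}
    (hpd : ∀ i j, pd i (z j) = if i = j then 1 else 0) (g : Fin n → P)
    (hdet : IsUnit (Matrix.of fun i j => pd i (g j)).det) : EtCoord A g := by
  haveI := hz.smooth
  obtain ⟨b, hb⟩ := hz.exists_basis
  refine etCoord_of_basis (b.map (Matrix.toLinearEquiv b _ hdet)) fun j => ?_
  rw [Module.Basis.map_apply]
  show Matrix.toLin b b _ (b j) = _
  rw [Matrix.toLin_self, hz.expand hpd (KaehlerDifferential.D A P)]
  simp [hb]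

/-- Étale coordinates on an étale algebra. -/
theorem EtCoord.etale (hz : EtCoord A z) {P' : Type u} [CommRing P'] [Algebra A P'] (φ : P →ₐ[A] P')
    (hφ : φ.toRingHom.Etale) : EtCoord A (fun i => φ (z i)) := by
  have h : (aeval (fun i => φ (z i)) : MvPolynomial (Fin n) A →ₐ[A] P').toRingHom =
      φ.toRingHom.comp (aeval z : MvPolynomial (Fin n) A →ₐ[A] P).toRingHom := by
    rw [show (aeval (fun i => φ (z i)) : MvPolynomial (Fin n) A →ₐ[A] P') = φ.comp (aeval z) from
      algHom_ext fun i => by simp]
    rfl
  rw [EtCoord, h]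
  exact RingHom.Etale.stableUnderComposition _ _ hz hφ

theorem EtCoord.away (hz : EtCoord A z) (r : P) :
    EtCoord A (fun i => algebraMap P (Localization.Away r) (z i)) :=
  hz.etale (IsScalarTower.toAlgHom A P (Localization.Away r))
    (RingHom.etale_algebraMap.2 (Algebra.Etale.of_isLocalizationAway r))

/-- Derivatives are compatible with étale maps. -/
theorem EtCoord.deriv_map (hz : EtCoord A z) {pd : Fin n → Derivation A P P}
    (hpd : ∀ i j, pd i (z j) = if i = j then 1 else 0) {P' : Type u} [CommRing P'] [Algebra A P'] [Algebra P P']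
    [IsScalarTower A P P'] {pd' : Fin n → Derivation A P' P'}
    (hpd' : ∀ i j, pd' i (algebraMap P P' (z j)) = if i = j then 1 else 0) (i : Fin n) (x : P) :
    pd' i (algebraMap P P' x) = algebraMap P P' (pd i x) := by
  have := hz.deriv_ext (M := P') (d₁ := (pd' i).compAlgebraMap P)
    (d₂ := (Algebra.linearMap P P').compDer (pd i)) fun j => by
      show pd' i (algebraMap P P' (z j)) = algebraMap P P' (pd i (z j))
      rw [hpd', hpd]; split_ifs <;> simp
  exact DFunLike.congr_fun this x

/-- Derivatives are compatible with maps of algebras preserving the coordinates. -/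
theorem EtCoord.deriv_hom (hz : EtCoord A z) {pd : Fin n → Derivation A P P}
    (hpd : ∀ i j, pd i (z j) = if i = j then 1 else 0) {P' : Type u} [CommRing P'] [Algebra A P']
    (φ : P →ₐ[A] P') (pd' : Fin n → Derivation A P' P')
    (hpd' : ∀ i j, pd' i (φ (z j)) = if i = j then 1 else 0) (i : Fin n) (x : P) :
    pd' i (φ x) = φ (pd i x) := by
  letI : Algebra P P' := φ.toRingHom.toAlgebra
  haveI : IsScalarTower A P P' := IsScalarTower.of_algebraMap_eq fun a => (φ.commutes a).symm
  exact hz.deriv_map (P' := P') hpd hpd' i x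

/-- The Jacobian criterion on a principal open. -/
theorem EtCoord.of_det_away (hz : EtCoord A z) {pd : Fin n → Derivation A P P}
    (hpd : ∀ i j, pd i (z j) = if i = j then 1 else 0) (g : Fin n → P) (d : P)
    (hd : (Matrix.of fun i j => pd i (g j)).det ∣ d) :
    EtCoord A (fun i => algebraMap P (Localization.Away d) (g i)) := by
  obtain ⟨pd', hpd'⟩ := (hz.away d).exists_deriv
  refine (hz.away d).of_det hpd' _ ?_
  have hM : (Matrix.of fun i j => pd' i (algebraMap P (Localization.Away d) (g j))) =
      (algebraMap P (Localization.Away d)).mapMatrix (Matrix.of fun i j => pd i (g j)) :=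
    Matrix.ext fun i j => hz.deriv_map hpd hpd' i (g j)
  rw [hM, ← RingHom.map_det]
  exact isUnit_of_dvd_unit (map_dvd _ hd) (IsLocalization.Away.algebraMap_isUnit d)

/-- Base change of étale coordinates. -/
theorem EtCoord.baseChange (hz : EtCoord A z) (A' : Type u) [CommRing A'] [Algebra A A'] :
    EtCoord A' (fun i => ((1 : A') ⊗ₜ[A] z i : A' ⊗[A] P)) := by
  haveI := hz.smooth
  obtain ⟨b, hb⟩ := hz.exists_basis
  letI := Algebra.TensorProduct.rightAlgebra (R := A) (A := A') (B := P)
  refine etCoord_of_basis ((b.baseChange (A' ⊗[A] P)).map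
    (KaehlerDifferential.tensorKaehlerEquiv A A' P (A' ⊗[A] P))) fun i => ?_
  simp [hb, RingHom.algebraMap_toAlgebra]

/-- Base change of an étale map along a surjection. -/
theorem etale_of_surjective {S T U : Type u} [CommRing S] [CommRing T] [CommRing U]
    (σ : S →+* T) (hσ : Function.Surjective σ) (e : S →+* U) (he : e.Etale) (J : Ideal U)
    (hJ : (RingHom.ker σ).map e = J) (ψ : T →+* U ⧸ J) (hψ : ψ.comp σ = (Ideal.Quotient.mk J).comp e) :
    ψ.Etale := by
  letI : Algebra S U := e.toAlgebra
  haveI : Algebra.Etale S U := he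
  let K := RingHom.ker σ
  haveI : Algebra.Etale (S ⧸ K) (U ⧸ K.map (algebraMap S U)) :=
    Algebra.Etale.of_equiv (Algebra.TensorProduct.quotIdealMapEquivQuotTensor U K).symm
  obtain rfl : K.map (algebraMap S U) = J := hJ
  have h2 : ψ = (algebraMap (S ⧸ K) (U ⧸ K.map (algebraMap S U))).comp
      (RingHom.quotientKerEquivOfSurjective hσ).symm.toRingHom := by
    refine RingHom.ext fun t => ?_
    obtain ⟨s, rfl⟩ := hσ t
    rw [RingHom.comp_apply, show (RingHom.quotientKerEquivOfSurjective hσ).symm.toRingHom (σ s) =
      Ideal.Quotient.mk K s from (RingEquiv.symm_apply_eq _).2 rfl]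
    exact RingHom.congr_fun hψ s
  rw [h2]
  exact RingHom.Etale.stableUnderComposition _ _
    (RingHom.Etale.of_bijective (RingHom.quotientKerEquivOfSurjective hσ).symm.bijective)
    (RingHom.etale_algebraMap.2 ‹_›)

/-- Killing the first coordinates. -/
theorem EtCoord.quotient {m k : ℕ} {f : Fin m → P} {w : Fin k → P} (h : EtCoord A (Fin.append f w)) :
    EtCoord A (fun i => Ideal.Quotient.mk (Ideal.span (Set.range f)) (w i)) := by
  let σ : MvPolynomial (Fin (m + k)) A →ₐ[A] MvPolynomial (Fin k) A :=
    aeval (Fin.append (fun _ => 0) X)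
  have hσ : Function.Surjective σ := fun p => ⟨rename (Fin.natAdd m) p, by
    simp only [σ, aeval_rename]
    conv_rhs => rw [← aeval_X_left_apply p]
    congr 1
    refine algHom_ext fun i => ?_
    simp⟩
  let e : MvPolynomial (Fin (m + k)) A →ₐ[A] P := aeval (Fin.append f w)
  let J := Ideal.span (Set.range f)
  let ψ : MvPolynomial (Fin k) A →ₐ[A] P ⧸ J := aeval fun i => Ideal.Quotient.mk J (w i)
  have hcomp : ψ.comp σ = (Ideal.Quotient.mkₐ A J).comp e := algHom_ext fun i => by
    refine Fin.addCases (fun i => ?_) (fun i => ?_) i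
    · simp [ψ, σ, e, J, Ideal.Quotient.eq_zero_iff_mem.2 (Ideal.subset_span (Set.mem_range_self i))]
    · simp [ψ, σ, e]
  have hJ : (RingHom.ker σ.toRingHom).map e.toRingHom = J := by
    refine le_antisymm (Ideal.map_le_iff_le_comap.2 fun p hp => ?_) (Ideal.span_le.2 ?_)
    · rw [Ideal.mem_comap, ← Ideal.Quotient.eq_zero_iff_mem]
      exact (AlgHom.congr_fun hcomp p).symm.trans (by
        rw [AlgHom.comp_apply, show σ p = 0 from hp, map_zero])
    · rintro _ ⟨i, rfl⟩
      have : X (Fin.castAdd k i) ∈ RingHom.ker σ.toRingHom := by simp [σ]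
      have := Ideal.mem_map_of_mem e.toRingHom this
      simpa [e] using this
  exact etale_of_surjective σ.toRingHom hσ e.toRingHom h J hJ ψ.toRingHom
    (congrArg AlgHom.toRingHom hcomp)

/-- A quotient by a full set of coordinates is étale. -/
theorem EtCoord.etale_quotient {f : Fin n → P} (h : EtCoord A f) :
    Algebra.Etale A (P ⧸ Ideal.span (Set.range f)) := by
  have h0 : EtCoord A (Fin.append f (Fin.elim0 : Fin 0 → P)) := by
    have : Fin.append f (Fin.elim0 : Fin 0 → P) = f := by
      funext i
      rw [Fin.append_elim0]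
      rfl
    rw [this]; exact h
  have h1 := EtCoord.quotient h0
  rw [← RingHom.etale_algebraMap]
  have hc : algebraMap A (P ⧸ Ideal.span (Set.range f)) =
      (aeval fun i => Ideal.Quotient.mk (Ideal.span (Set.range f)) ((Fin.elim0 : Fin 0 → P) i) :
        MvPolynomial (Fin 0) A →ₐ[A] _).toRingHom.comp (C : A →+* MvPolynomial (Fin 0) A) :=
    RingHom.ext fun a => (aeval_C _ a).symm
  rw [hc]
  exact RingHom.Etale.stableUnderComposition _ _
    (RingHom.Etale.of_bijective (isEmptyRingEquiv A (Fin 0)).symm.bijective) h1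

end Groth.Agent.NodalEtale14
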