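import Groth.Agent.Lib.NodalEtale14.Model
import Groth.Agent.Lib.Fitting.More
import Groth.Prelude.Def_RegImm
import Mathlib.RingTheory.Kaehler.Basic
import Mathlib.LinearAlgebra.FiniteDimensional.Lemmas
import Mathlib.LinearAlgebra.Matrix.NonsingularInverse

/-!
# Hypersurface charts at the singular points of families of curves
-/

set_option autoImplicit false
set_option linter.style.haveILetI false

universe u

open MvPolynomial TensorProduct

noncomputable section

namespace Groth.Agent.NodalEtale14

/-- A derivation applied to a determinant. -/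
theorem deriv_det {A B K : Type u} [CommRing A] [CommRing B] [CommRing K] [Algebra A B] [Algebra B K]
    [Algebra A K] [IsScalarTower A B K] (d : Derivation A B K) {n : ℕ} (M : Matrix (Fin n) (Fin n) B) :
    d M.det = ∑ i, (((algebraMap B K).mapMatrix M).updateRow i fun j => d (M i j)).det := by
  classical
  have hprod : ∀ (s : Finset (Fin n)) (f : Fin n → B),
      d (∏ i ∈ s, f i) = ∑ i ∈ s, (∏ j ∈ s.erase i, algebraMap B K (f j)) * d (f i) := by
    intro s f
    induction s using Finset.induction_on with
    | empty => simp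
    | insert a s ha ih =>
      rw [Finset.prod_insert ha, d.leibniz, ih, Finset.sum_insert ha, Finset.erase_insert ha, add_comm,
        Algebra.smul_def, Algebra.smul_def, map_prod, Finset.mul_sum]
      refine congrArg₂ (· + ·) rfl (Finset.sum_congr rfl fun i hi => ?_)
      rw [Finset.erase_insert_of_ne (fun h : a = i => ha (by rw [h]; exact hi)), Finset.prod_insert (fun h => ha (Finset.mem_of_mem_erase h))]
      ring
  rw [← Matrix.det_transpose, Matrix.det_apply, map_sum]
  simp only [← Matrix.det_transpose (Matrix.updateRow _ _ _), Matrix.det_apply]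
  rw [Finset.sum_comm]
  refine Finset.sum_congr rfl fun σ _ => ?_
  rw [Units.smul_def, map_zsmul]
  simp only [Units.smul_def, ← Finset.smul_sum]
  congr 1
  rw [hprod]
  refine Finset.sum_congr rfl fun i _ => ?_
  rw [← Finset.prod_erase_mul _ _ (Finset.mem_univ i)]
  refine congrArg₂ (· * ·) (Finset.prod_congr rfl fun j hj => ?_) ?_
  · simp [Matrix.updateRow_ne (Finset.ne_of_mem_erase hj)]
  · simp

/-- A matrix all of whose rows but one are orthogonal to two independent vectors has determinant zero. -/
theorem det_eq_zero_of_orthogonal {R : Type u} [CommRing R] {n : ℕ} (M : Matrix (Fin n) (Fin n) R)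
    (i₁ i₂ : Fin n) (hne : i₁ ≠ i₂) (τ₁ τ₂ : Fin n → R) (h11 : τ₁ i₁ = 1) (h12 : τ₁ i₂ = 0) (h21 : τ₂ i₁ = 0)
    (h22 : τ₂ i₂ = 1) (S : Finset (Fin n)) (hS : S.card ≤ 1)
    (hM : ∀ i ∉ S, ∑ j, M i j * τ₁ j = 0 ∧ ∑ j, M i j * τ₂ j = 0) : M.det = 0 := by
  classical
  obtain ⟨s, hs⟩ : ∃ s, S ⊆ {s} := by
    by_cases h : S.Nonempty
    · obtain ⟨s, hs⟩ := h
      exact ⟨s, fun x hx => Finset.mem_singleton.2 (Finset.card_le_one.1 hS x hx s hs)⟩
    · exact ⟨i₁, fun x hx => absurd ⟨x, hx⟩ h⟩
  let N : Matrix (Fin n) (Fin n) R := Matrix.of fun l j =>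
    if l = i₁ ∨ l = i₂ then 0 else if j = i₁ then τ₁ l else if j = i₂ then τ₂ l else 0
  have hNN : N * N = 0 := by
    ext l j
    rw [Matrix.mul_apply]
    refine Finset.sum_eq_zero fun k _ => ?_
    simp only [N, Matrix.of_apply]
    split_ifs <;> simp_all
  have hu : IsUnit (1 + N).det := by
    have h : (1 + N) * (1 - N) = 1 := by
      rw [add_mul, mul_sub, mul_sub, one_mul, one_mul, mul_one, hNN]; abel
    exact isUnit_of_dvd_one ⟨(1 - N).det, by rw [← Matrix.det_mul, h, Matrix.det_one]⟩
  have hcol : ∀ l, ((1 + N) l i₁ = τ₁ l) ∧ ((1 + N) l i₂ = τ₂ l) := by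
    intro l
    rcases eq_or_ne l i₁ with rfl | h1
    · simp [N, h11, h21, hne]
    rcases eq_or_ne l i₂ with rfl | h2
    · simp [N, h12, h22, hne, h1]
    simp [N, h1, h2, hne.symm]
  have hME : (M * (1 + N)).det = 0 := by
    let α := (M * (1 + N)) s i₁
    let β := (M * (1 + N)) s i₂
    let E := M * (1 + N)
    have hE : ∀ (i : Fin n) (k : Fin n), (k = i₁ ∨ k = i₂) → i ≠ s → E i k = 0 := by
      intro i k hk hi
      have hiS : i ∉ S := fun h => hi (Finset.mem_singleton.1 (hs h))
      simp only [E, Matrix.mul_apply]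
      rcases hk with rfl | rfl
      · simp only [(hcol _).1]; exact (hM i hiS).1
      · simp only [(hcol _).2]; exact (hM i hiS).2
    have hE' : E = (E.updateCol i₁ (α • Pi.single s 1)).updateCol i₂ (β • Pi.single s 1) := by
      ext i k
      rcases eq_or_ne k i₂ with rfl | h2
      · rw [Matrix.updateCol_self]
        rcases eq_or_ne i s with rfl | hi
        · simp [E, β]
        · simp [hE i k (Or.inr rfl) hi, hi]
      rw [Matrix.updateCol_ne h2]
      rcases eq_or_ne k i₁ with rfl | h1
      · rw [Matrix.updateCol_self]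
        rcases eq_or_ne i s with rfl | hi
        · simp [E, α]
        · simp [hE i k (Or.inl rfl) hi, hi]
      rw [Matrix.updateCol_ne h1]
    show E.det = 0
    rw [hE', Matrix.det_updateCol_smul, Matrix.updateCol_comm _ hne, Matrix.det_updateCol_smul,
      Matrix.det_zero_of_column_eq hne (fun i => ?_), mul_zero, mul_zero]
    simp [Matrix.updateCol_apply, hne, hne.symm]
  rw [Matrix.det_mul] at hME
  exact hu.mul_left_eq_zero.1 hME

variable {A : Type u} [CommRing A] {n c : ℕ} (F : Fin c → MvPolynomial (Fin n) A)

/-- The presented algebra. -/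
abbrev RR : Type u := Synt.RelGCIRing A n c F

/-- The differentials of the variables. -/
def dX (i : Fin n) : Ω[(RR F)⁄A] := KaehlerDifferential.D A (RR F) (Ideal.Quotient.mk _ (X i))

theorem span_dX : Submodule.span (RR F) (Set.range (dX F)) = ⊤ := by
  refine eq_top_iff.2 ?_
  rw [← KaehlerDifferential.span_range_derivation A (RR F), Submodule.span_le]
  rintro _ ⟨b, rfl⟩
  obtain ⟨p, rfl⟩ := Ideal.Quotient.mk_surjective b
  induction p using MvPolynomial.induction_on with
  | C a =>
    show KaehlerDifferential.D A (RR F) (algebraMap A (RR F) a) ∈ _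
    rw [Derivation.map_algebraMap]
    exact zero_mem _
  | add p q hp hq => rw [map_add, map_add]; exact add_mem hp hq
  | mul_X p i hp =>
    rw [map_mul, Derivation.leibniz]
    exact add_mem (Submodule.smul_mem _ _ (Submodule.subset_span ⟨i, rfl⟩)) (Submodule.smul_mem _ _ hp)

variable (q : Ideal (RR F)) [q.IsPrime]

/-- The residue map on polynomials. -/
def resPoly : MvPolynomial (Fin n) A →+* q.ResidueField :=
  (algebraMap (RR F) q.ResidueField).comp (Ideal.Quotient.mk _)

/-- The evaluation of the differentials of the variables in the residue field. -/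
def evalDX : (Fin n → q.ResidueField) →ₗ[q.ResidueField] q.ResidueField ⊗[(RR F)] Ω[(RR F)⁄A] :=
  Fintype.linearCombination q.ResidueField fun i => (1 : q.ResidueField) ⊗ₜ[(RR F)] dX F i

theorem evalDX_surjective : Function.Surjective (evalDX F q) := by
  rw [← LinearMap.range_eq_top, evalDX, Fintype.range_linearCombination, eq_top_iff]
  intro w _
  induction w using TensorProduct.induction_on with
  | zero => exact zero_mem _
  | add a b ha hb => exact add_mem (ha trivial) (hb trivial)
  | tmul k ω =>
    have key : ∀ x ∈ Submodule.span (RR F) (Set.range (dX F)), ((1 : q.ResidueField) ⊗ₜ[RR F] x) ∈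
        Submodule.span q.ResidueField (Set.range fun i => (1 : q.ResidueField) ⊗ₜ[RR F] dX F i) := by
      intro x hx
      induction hx using Submodule.span_induction with
      | mem x hx => obtain ⟨i, rfl⟩ := hx; exact Submodule.subset_span ⟨i, rfl⟩
      | zero => simp
      | add x y _ _ hx hy => rw [tmul_add]; exact add_mem hx hy
      | smul b x _ hx =>
        rw [tmul_smul, ← IsScalarTower.algebraMap_smul q.ResidueField b]
        exact Submodule.smul_mem _ _ hx
    rw [show k ⊗ₜ[RR F] ω = k • ((1 : q.ResidueField) ⊗ₜ[RR F] ω) by rw [TensorProduct.smul_tmul', smul_eq_mul, mul_one]]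
    exact Submodule.smul_mem _ _ (key ω (by rw [span_dX]; trivial))

/-- The gradient of a polynomial in the residue field. -/
def grad (p : MvPolynomial (Fin n) A) : Fin n → q.ResidueField := fun i => resPoly F q (pderiv i p)

theorem evalDX_grad (p : MvPolynomial (Fin n) A) :
    evalDX F q (grad F q p) = (1 : q.ResidueField) ⊗ₜ[(RR F)] KaehlerDifferential.D A (RR F) (Ideal.Quotient.mk _ p) := by
  simp only [evalDX, Fintype.linearCombination_apply, grad]
  induction p using MvPolynomial.induction_on with
  | C a =>
    rw [show (Ideal.Quotient.mk _ (C a) : (RR F)) = algebraMap A (RR F) a from rfl, Derivation.map_algebraMap]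
    simp
  | add p q' hp hq => simp only [map_add, add_smul, Finset.sum_add_distrib, hp, hq, tmul_add]
  | mul_X p j hp =>
    rw [map_mul, Derivation.leibniz, tmul_add, tmul_smul, tmul_smul, ← hp,
      ← IsScalarTower.algebraMap_smul q.ResidueField (Ideal.Quotient.mk _ p : (RR F)),
      ← IsScalarTower.algebraMap_smul q.ResidueField (Ideal.Quotient.mk _ (X j) : (RR F)), Finset.smul_sum]
    have h : ∀ i, pderiv i (p * X j) = pderiv i p * X j + p * if i = j then 1 else 0 := fun i => by
      rcases eq_or_ne i j with rfl | hij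
      · simp; ring
      · simp [pderiv_X_of_ne hij.symm, hij]; ring
    simp only [h, map_add, map_mul, add_smul, Finset.sum_add_distrib, smul_smul, apply_ite (resPoly F q), map_one,
      map_zero, mul_ite, mul_one, mul_zero, ite_smul, zero_smul, Finset.sum_ite_eq', Finset.mem_univ, if_true]
    rw [add_comm]
    refine congrArg₂ (· + ·) rfl (Finset.sum_congr rfl fun i _ => ?_)
    rw [mul_comm]
    rfl

theorem span_grad : Submodule.span q.ResidueField (Set.range fun k => grad F q (F k)) = LinearMap.ker (evalDX F q) := by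
  refine le_antisymm (Submodule.span_le.2 ?_) ?_
  · rintro _ ⟨k, rfl⟩
    show evalDX F q (grad F q (F k)) = 0
    rw [evalDX_grad, Ideal.Quotient.eq_zero_iff_mem.2 (Ideal.subset_span (Set.mem_range_self k)), map_zero, tmul_zero]
  intro v hv
  by_contra hne
  obtain ⟨φ, hφv, hφ⟩ := Submodule.exists_dual_map_eq_bot_of_notMem hne inferInstance
  letI : Algebra (MvPolynomial (Fin n) A) q.ResidueField := (resPoly F q).toAlgebra
  haveI : IsScalarTower A (MvPolynomial (Fin n) A) q.ResidueField := IsScalarTower.of_algebraMap_eq fun a => by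
    show algebraMap A q.ResidueField a = algebraMap (RR F) q.ResidueField (algebraMap A (RR F) a)
    exact IsScalarTower.algebraMap_apply A (RR F) q.ResidueField a
  let e : MvPolynomial (Fin n) A →ₗ[A] q.ResidueField :=
    { toFun := fun p => φ (grad F q p)
      map_add' := fun p p' => by
        rw [← map_add]; congr 1; funext i; simp [grad]
      map_smul' := fun a p => by
        rw [RingHom.id_apply, ← IsScalarTower.algebraMap_smul q.ResidueField a (φ (grad F q p)), ← map_smul]
        congr 1; funext i
        simp only [grad, map_smul, Pi.smul_apply, smul_eq_mul]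
        rw [Derivation.map_smul, Algebra.smul_def, map_mul, IsScalarTower.algebraMap_apply A (MvPolynomial (Fin n) A) q.ResidueField]
        rfl }
  have hleib : ∀ p p', e (p * p') = resPoly F q p * e p' + resPoly F q p' * e p := by
    intro p p'
    show φ _ = resPoly F q p • φ _ + resPoly F q p' • φ _
    rw [← map_smul, ← map_smul, ← map_add]
    congr 1; funext i
    simp [grad]
  let J := Ideal.span (Set.range F)
  have he0 : ∀ p ∈ J, e p = 0 := by
    intro p hp
    induction hp using Submodule.span_induction with
    | mem x hx =>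
      obtain ⟨k, rfl⟩ := hx
      have : φ (grad F q (F k)) ∈ Submodule.map φ (Submodule.span q.ResidueField (Set.range fun k => grad F q (F k))) :=
        Submodule.mem_map_of_mem (Submodule.subset_span ⟨k, rfl⟩)
      rw [hφ] at this
      exact this
    | zero => exact map_zero e
    | add x y _ _ hx hy => rw [map_add, hx, hy, add_zero]
    | smul r x hx hx' =>
      rw [smul_eq_mul, hleib, hx', mul_zero, zero_add,
        show resPoly F q x = 0 by
          show algebraMap (RR F) q.ResidueField _ = 0
          rw [Ideal.Quotient.eq_zero_iff_mem.2 hx, map_zero], zero_mul]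
  let eB : (RR F) →ₗ[A] q.ResidueField := Submodule.liftQ (J.restrictScalars A) e he0
  let dB : Derivation A (RR F) q.ResidueField := Derivation.mk' eB fun a b => by
    obtain ⟨a, rfl⟩ := Ideal.Quotient.mk_surjective a
    obtain ⟨b, rfl⟩ := Ideal.Quotient.mk_surjective b
    rw [Algebra.smul_def, Algebra.smul_def, ← map_mul]
    exact hleib a b
  let L : q.ResidueField ⊗[(RR F)] Ω[(RR F)⁄A] →ₗ[q.ResidueField] q.ResidueField :=
    LinearMap.liftBaseChange q.ResidueField dB.liftKaehlerDifferential
  have hL : ∀ w, L (evalDX F q w) = φ w := by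
    have : L.comp (evalDX F q) = φ := (Pi.basisFun q.ResidueField (Fin n)).ext fun i => by
      simp only [Pi.basisFun_apply, LinearMap.comp_apply, evalDX, Fintype.linearCombination_apply_single, one_smul]
      simp only [L, LinearMap.liftBaseChange_tmul, one_smul, dX, Derivation.liftKaehlerDifferential_comp_D]
      show φ (grad F q (X i)) = _
      congr 1; funext j
      rcases eq_or_ne j i with rfl | h
      · simp [grad]
      · simp [grad, pderiv_X_of_ne h.symm, h]
    exact fun w => LinearMap.congr_fun this w
  exact hφv (by rw [← hL v, show evalDX F q v = 0 from hv, map_zero])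

variable [Algebra.FormallyUnramified A ((RR F) ⧸ Fitt.ideal (RR F) Ω[(RR F)⁄A] 1)]

theorem deriv_eq_zero_of_fitting (hFit : Fitt.ideal (RR F) Ω[(RR F)⁄A] 1 ≤ q) (d : Derivation A (RR F) q.ResidueField)
    (h : ∀ x ∈ Fitt.ideal (RR F) Ω[(RR F)⁄A] 1, d x = 0) (y : (RR F)) : d y = 0 := by
  let I := Fitt.ideal (RR F) Ω[(RR F)⁄A] 1
  let φ : (RR F) ⧸ I →ₐ[A] q.ResidueField := Ideal.Quotient.liftₐ I (IsScalarTower.toAlgHom A (RR F) q.ResidueField)
    fun x hx => Ideal.algebraMap_residueField_eq_zero.2 (hFit hx)
  letI : Algebra ((RR F) ⧸ I) q.ResidueField := φ.toRingHom.toAlgebra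
  haveI : IsScalarTower A ((RR F) ⧸ I) q.ResidueField := IsScalarTower.of_algebraMap_eq fun a => (φ.commutes a).symm
  let eI : (RR F) ⧸ I →ₗ[A] q.ResidueField := Submodule.liftQ (I.restrictScalars A) d.toLinearMap h
  let dI : Derivation A ((RR F) ⧸ I) q.ResidueField := Derivation.mk' eI fun a b => by
    obtain ⟨a, rfl⟩ := Ideal.Quotient.mk_surjective a
    obtain ⟨b, rfl⟩ := Ideal.Quotient.mk_surjective b
    rw [← map_mul, Algebra.smul_def, Algebra.smul_def]
    refine (d.leibniz a b).trans ?_
    rw [Algebra.smul_def, Algebra.smul_def]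
    rfl
  show dI (Ideal.Quotient.mk I y) = 0
  rw [← dI.liftKaehlerDifferential_comp_D, Subsingleton.elim (KaehlerDifferential.D A ((RR F) ⧸ I) (Ideal.Quotient.mk I y)) 0,
    map_zero]

theorem finrank_eq_two (hFit : Fitt.ideal (RR F) Ω[(RR F)⁄A] 1 ≤ q) :
    Module.finrank q.ResidueField (q.ResidueField ⊗[(RR F)] Ω[(RR F)⁄A]) = 2 := by
  haveI : Module.Finite (RR F) Ω[(RR F)⁄A] := inferInstance
  have hge : 2 ≤ Module.finrank q.ResidueField (q.ResidueField ⊗[(RR F)] Ω[(RR F)⁄A]) := by
    by_contra h
    exact (FittingLib.not_le_iff_finrank_fiber_le 1 q).2 (by omega) hFit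
  by_contra hne
  have h3 : 3 ≤ Module.finrank q.ResidueField (q.ResidueField ⊗[(RR F)] Ω[(RR F)⁄A]) := by omega
  let K := LinearMap.ker (evalDX F q)
  have hK : Module.finrank q.ResidueField K + 3 ≤ n := by
    have := LinearMap.finrank_range_add_finrank_ker (evalDX F q)
    rw [LinearMap.range_eq_top.2 (evalDX_surjective F q), finrank_top, Module.finrank_fin_fun] at this
    simp only [K] at *
    omega
  -- all derivations kill the Fitting ideal
  have hkill : ∀ d : Derivation A (RR F) q.ResidueField, ∀ x ∈ Fitt.ideal (RR F) Ω[(RR F)⁄A] 1, d x = 0 := by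
    intro d x hx
    rw [FittingLib.ideal_eq_J (dX F) (span_dX F)] at hx
    induction hx using Submodule.span_induction with
    | mem y hy =>
      obtain ⟨M, S, hS, hM, rfl⟩ := hy
      rw [deriv_det]
      refine Finset.sum_eq_zero fun i _ => ?_
      by_contra hdet
      have hli := Matrix.linearIndependent_rows_of_isUnit ((Matrix.isUnit_iff_isUnit_det _).2 (isUnit_iff_ne_zero.2 hdet))
      let T := (insert i S)ᶜ
      have hli' : LinearIndependent q.ResidueField (fun t : T => (⟨(((algebraMap (RR F) q.ResidueField).mapMatrix M).updateRow i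
          fun j => d (M i j)) t.1, by
            have ht := Finset.mem_compl.1 t.2
            rw [Finset.mem_insert, not_or] at ht
            show evalDX F q _ = 0
            rw [Matrix.updateRow_ne ht.1, evalDX, Fintype.linearCombination_apply]
            have h0 := congrArg (fun ω => (1 : q.ResidueField) ⊗ₜ[(RR F)] ω) (FittingLib.mem_rel.1 (hM t.1 ht.2))
            simp only [tmul_sum, tmul_zero, tmul_smul] at h0
            rw [← h0]
            refine Finset.sum_congr rfl fun j _ => ?_
            rw [RingHom.mapMatrix_apply, Matrix.map_apply, IsScalarTower.algebraMap_smul]⟩ : K)) := by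
        refine LinearIndependent.of_comp K.subtype ?_
        exact hli.comp _ Subtype.val_injective
      have hc := hli'.fintype_card_le_finrank
      rw [Fintype.card_coe, Finset.card_compl, Fintype.card_fin] at hc
      have := Finset.card_insert_le i S
      omega
    | zero => exact map_zero d
    | add a b _ _ ha hb => rw [map_add, ha, hb, add_zero]
    | smul r a ha ha' =>
      rw [smul_eq_mul, d.leibniz, ha', smul_zero, zero_add, Algebra.smul_def, mul_eq_zero]
      left
      rw [Ideal.algebraMap_residueField_eq_zero]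
      exact hFit (by rw [FittingLib.ideal_eq_J (dX F) (span_dX F)]; exact ha)
  have hz : ∀ w : q.ResidueField ⊗[(RR F)] Ω[(RR F)⁄A], w = 0 := by
    intro w
    by_contra hw
    obtain ⟨ψ, hψ⟩ : ∃ ψ : Module.Dual q.ResidueField (q.ResidueField ⊗[(RR F)] Ω[(RR F)⁄A]), ψ w ≠ 0 := by
      by_contra hh
      push Not at hh
      exact hw ((Module.forall_dual_apply_eq_zero_iff q.ResidueField w).1 hh)
    obtain ⟨v, rfl⟩ := evalDX_surjective F q w
    refine hψ ?_
    simp only [evalDX, Fintype.linearCombination_apply, map_sum, map_smul]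
    refine Finset.sum_eq_zero fun i _ => ?_
    let d : Derivation A (RR F) q.ResidueField :=
      ((ψ.restrictScalars (RR F)).comp (TensorProduct.mk (RR F) q.ResidueField Ω[(RR F)⁄A] 1)).compDer (KaehlerDifferential.D A (RR F))
    have h0 : d (Ideal.Quotient.mk _ (X i)) = 0 := deriv_eq_zero_of_fitting F q hFit d (hkill d) _
    rw [show ψ ((1 : q.ResidueField) ⊗ₜ[(RR F)] dX F i) = 0 from h0, smul_zero]
  haveI : Subsingleton (q.ResidueField ⊗[(RR F)] Ω[(RR F)⁄A]) := subsingleton_of_forall_eq 0 hz
  rw [Module.finrank_zero_of_subsingleton] at h3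
  omega

end Groth.Agent.NodalEtale14
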