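import Groth.Agent.Lib.NodalEtale14.Chart

/-!
# The hypersurface chart and the local model of a nodal relative complete intersection
-/

set_option autoImplicit false
set_option linter.style.haveILetI false
set_option backward.isDefEq.respectTransparency.types false

universe u

open MvPolynomial TensorProduct

noncomputable section

namespace Groth.Agent.NodalEtale14

/-- The identity coordinates of a polynomial algebra. -/
theorem etCoord_X (A : Type u) [CommRing A] (n : ℕ) : EtCoord A (X : Fin n → MvPolynomial (Fin n) A) := by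
  unfold EtCoord
  rw [show (aeval (X : Fin n → MvPolynomial (Fin n) A) : MvPolynomial (Fin n) A →ₐ[A] _) = AlgHom.id A _ from
    algHom_ext fun i => by simp]
  exact RingHom.Etale.of_bijective Function.bijective_id

/-- Relations and two unit vectors making an invertible Jacobian. -/
theorem exists_rows {κ : Type u} [Field κ] {n c m : ℕ} {W : Type u} [AddCommGroup W] [Module κ W]
    [FiniteDimensional κ W] (L : (Fin n → κ) →ₗ[κ] W) (hL : Function.Surjective L) (hW : Module.finrank κ W = 2)
    (row : Fin c → Fin n → κ) (hrow : Submodule.span κ (Set.range row) = LinearMap.ker L) (hn : m + 2 = n) :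
    ∃ (sel : Fin m → Fin c) (i₁ i₂ : Fin n), Function.Injective sel ∧
      Submodule.span κ (Set.range (row ∘ sel)) = LinearMap.ker L ∧
      LinearIndependent κ (Fin.append (row ∘ sel) ![Pi.single i₁ (1 : κ), Pi.single i₂ 1]) := by
  classical
  obtain ⟨ι, a, ha, hsp, hli⟩ := exists_linearIndependent' κ row
  haveI : Finite ι := Finite.of_injective a ha
  haveI := Fintype.ofFinite ι
  have hker : Module.finrank κ (LinearMap.ker L) = m := by
    have := LinearMap.finrank_range_add_finrank_ker L
    rw [LinearMap.range_eq_top.2 hL, finrank_top, hW, Module.finrank_fin_fun] at this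
    omega
  have hι : Fintype.card ι = m := by
    rw [← hker, ← hrow, ← hsp, finrank_span_eq_card hli]
  let e := (Fintype.equivFinOfCardEq hι).symm
  obtain ⟨ι', b, hb, hsp', hli'⟩ := exists_linearIndependent' κ fun i => L (Pi.single i 1)
  haveI : Finite ι' := Finite.of_injective b hb
  haveI := Fintype.ofFinite ι'
  have htop : Submodule.span κ (Set.range fun i => L (Pi.single i 1)) = ⊤ := by
    rw [eq_top_iff]
    intro w _
    obtain ⟨v, rfl⟩ := hL w
    rw [pi_eq_sum_univ' v, map_sum]
    exact Submodule.sum_mem _ fun i _ => by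
      rw [map_smul]; exact Submodule.smul_mem _ _ (Submodule.subset_span ⟨i, rfl⟩)
  have hι' : Fintype.card ι' = 2 := by
    rw [← hW, ← finrank_top κ W, ← htop, ← hsp', finrank_span_eq_card hli']
  let e' := (Fintype.equivFinOfCardEq hι').symm
  refine ⟨fun k => a (e k), b (e' 0), b (e' 1), ha.comp e.injective, ?_, ?_⟩
  · rw [← hrow, ← hsp]
    exact congrArg (Submodule.span κ) (e.surjective.range_comp (row ∘ a))
  have hA : LinearIndependent κ (row ∘ fun k => a (e k)) := hli.comp e e.injective
  have hB : LinearIndependent κ ![L (Pi.single (b (e' 0)) 1), L (Pi.single (b (e' 1)) 1)] := by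
    have := hli'.comp e' e'.injective
    convert this using 1
    funext i; fin_cases i <;> rfl
  rw [Fintype.linearIndependent_iff]
  intro g hg
  rw [Fin.sum_univ_add] at hg
  simp only [Fin.append_left, Fin.append_right] at hg
  have h0 : ∀ k, L (row (a (e k))) = 0 := fun k =>
    show row (a (e k)) ∈ LinearMap.ker L by rw [← hrow]; exact Submodule.subset_span ⟨_, rfl⟩
  have h1 := congrArg L hg
  simp only [map_add, map_sum, map_smul, Function.comp_apply, h0, smul_zero, Finset.sum_const_zero, zero_add,
    map_zero, Fin.sum_univ_two, Matrix.cons_val_zero, Matrix.cons_val_one] at h1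
  have h2 := (LinearIndependent.pair_iff.1 hB) (g (Fin.natAdd m 0)) (g (Fin.natAdd m 1)) h1
  simp only [Fin.sum_univ_two, h2.1, h2.2, zero_smul, add_zero] at hg
  have h3 := Fintype.linearIndependent_iff.1 hA (fun k => g (Fin.castAdd 2 k)) hg
  intro i
  refine Fin.addCases (fun k => h3 k) (fun k => ?_) i
  fin_cases k
  · exact h2.1
  · exact h2.2

variable {A : Type u} [CommRing A] {n c : ℕ} (F : Fin c → MvPolynomial (Fin n) A) (q : Ideal (RR F)) [q.IsPrime]

/-- The hypersurface chart at a singular point of a nodal relative complete intersection. -/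
theorem exists_chart [Algebra.FormallyUnramified A (RR F ⧸ Fitt.ideal (RR F) Ω[(RR F)⁄A] 1)]
    (hFit : Fitt.ideal (RR F) Ω[(RR F)⁄A] 1 ≤ q) (hc : c + 1 ≤ n) :
    ∃ g : RR F, g ∉ q ∧ ∃ (P : Type u) (_ : CommRing P) (_ : Algebra A P) (z : Fin 2 → P)
      (pd : Fin 2 → Derivation A P P) (F₀ : P) (π : P →ₐ[A] Localization.Away g) (Q : Ideal (Localization.Away g)),
      EtCoord A z ∧ (∀ i j, pd i (z j) = if i = j then 1 else 0) ∧ Function.Surjective π ∧
      RingHom.ker π.toRingHom = Ideal.span {F₀} ∧ Q.IsPrime ∧ Q.comap (algebraMap (RR F) (Localization.Away g)) = q ∧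
      π F₀ ∈ Q ∧ (∀ i, π (pd i F₀) ∈ Q) ∧ π (Matrix.of fun i j => pd i (pd j F₀)).det ∉ Q := by
  classical
  have hd := finrank_eq_two F q hFit
  obtain ⟨m, hm⟩ : ∃ m, m + 2 = n := by
    refine ⟨n - 2, Nat.sub_add_cancel ?_⟩
    have := LinearMap.finrank_range_add_finrank_ker (evalDX F q)
    rw [LinearMap.range_eq_top.2 (evalDX_surjective F q), finrank_top, Module.finrank_fin_fun, hd] at this
    omega
  subst hm
  obtain ⟨sel, i₁, i₂, hsel, hspan, hli⟩ := exists_rows (evalDX F q) (evalDX_surjective F q) hd
    (fun k => grad F q (F k)) (span_grad F q) rfl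
  let Pol := MvPolynomial (Fin (m + 2)) A
  let gv : Fin (m + 2) → Pol := Fin.append (F ∘ sel) ![X i₁, X i₂]
  let pdX : Fin (m + 2) → Derivation A Pol Pol := fun i => pderiv i
  have hpdX : ∀ i j, pdX i (X j) = if i = j then 1 else 0 := fun i j => by
    show pderiv i (X j) = _
    rcases eq_or_ne i j with rfl | h
    · rw [if_pos rfl]; exact pderiv_X_self i
    · rw [if_neg h]; exact pderiv_X_of_ne h.symm
  let δ : Pol := (Matrix.of fun i j => pdX i (gv j)).det
  have hδ : resPoly F q δ ≠ 0 := by
    have hM : (resPoly F q).mapMatrix (Matrix.of fun i j => pdX i (gv j)) =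
        Matrix.transpose (Matrix.of (Fin.append (((fun k => grad F q (F k))) ∘ sel)
          ![Pi.single i₁ (1 : q.ResidueField), Pi.single i₂ 1])) := by
      ext i j
      refine Fin.addCases (fun k => ?_) (fun k => ?_) j
      · simp [gv, pdX, grad]
      · fin_cases k
        · rcases eq_or_ne i i₁ with rfl | h
          · simp [gv, pdX]; exact (congrArg (resPoly F q) (pderiv_X_self i)).trans (map_one _)
          · simp [gv, pdX, h]; exact (congrArg (resPoly F q) (pderiv_X_of_ne h.symm)).trans (map_zero _)
        · rcases eq_or_ne i i₂ with rfl | h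
          · simp [gv, pdX]; exact (congrArg (resPoly F q) (pderiv_X_self i)).trans (map_one _)
          · simp [gv, pdX, h]; exact (congrArg (resPoly F q) (pderiv_X_of_ne h.symm)).trans (map_zero _)
    rw [RingHom.map_det, hM, Matrix.det_transpose]
    exact ((Matrix.isUnit_iff_isUnit_det _).1 (Matrix.linearIndependent_rows_iff_isUnit.1 hli)).ne_zero
  let R0 := Localization.Away δ
  have hR0 : EtCoord A (Fin.append (fun k => algebraMap Pol R0 (F (sel k))) (fun l => algebraMap Pol R0 (![X i₁, X i₂] l))) := by
    have h := (etCoord_X A (m + 2)).of_det_away hpdX gv δ dvd_rfl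
    convert h using 1
    funext i
    refine Fin.addCases (fun k => ?_) (fun k => ?_) i <;> simp [gv, R0] <;> rfl
  let J0 : Ideal R0 := Ideal.span (Set.range fun k => algebraMap Pol R0 (F (sel k)))
  let P := R0 ⧸ J0
  let z : Fin 2 → P := fun l => Ideal.Quotient.mk J0 (algebraMap Pol R0 (![X i₁, X i₂] l))
  have hz : EtCoord A z := hR0.quotient
  obtain ⟨pd, hpd⟩ := hz.exists_deriv
  let mkB : Pol →ₐ[A] RR F := Ideal.Quotient.mkₐ A _
  let g : RR F := mkB δ
  have hg : g ∉ q := fun h => hδ (Ideal.algebraMap_residueField_eq_zero.2 h)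
  let T := Localization.Away g
  let ρ : R0 →ₐ[A] T := IsLocalization.liftAlgHom (M := Submonoid.powers δ)
    (f := (IsScalarTower.toAlgHom A (RR F) T).comp mkB) fun y => by
      obtain ⟨k, hk⟩ := y.2
      rw [← hk, map_pow]
      exact (IsLocalization.Away.algebraMap_isUnit g).pow k
  have hρ : ∀ x, ρ (algebraMap Pol R0 x) = algebraMap (RR F) T (mkB x) := fun x => IsLocalization.lift_eq _ x
  have hρsurj : Function.Surjective ρ := by
    intro t
    obtain ⟨b, k, hb⟩ := IsLocalization.Away.surj g t
    obtain ⟨p, rfl⟩ := Ideal.Quotient.mk_surjective k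
    obtain ⟨x, hx⟩ : ∃ x : R0, algebraMap Pol R0 δ * x = 1 :=
      isUnit_iff_exists_inv.1 (IsLocalization.Away.algebraMap_isUnit δ)
    refine ⟨algebraMap Pol R0 p * x ^ b, ?_⟩
    have h1 : algebraMap (RR F) T g * ρ x = 1 := by rw [← hρ, ← map_mul, hx, map_one]
    rw [map_mul, map_pow, hρ, show algebraMap (RR F) T (mkB p) = _ from hb.symm, mul_assoc, ← mul_pow, h1, one_pow, mul_one]
  let π : P →ₐ[A] T := Ideal.Quotient.liftₐ J0 ρ fun x hx => by
    refine (Ideal.span_le (I := RingHom.ker ρ.toRingHom)).2 ?_ hx
    rintro _ ⟨k, rfl⟩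
    show ρ (algebraMap Pol R0 (F (sel k))) = 0
    rw [hρ, show mkB (F (sel k)) = 0 from Ideal.Quotient.eq_zero_iff_mem.2 (Ideal.subset_span ⟨_, rfl⟩), map_zero]
  have hπ : ∀ x, π (Ideal.Quotient.mk J0 x) = ρ x := fun x => rfl
  have hπsurj : Function.Surjective π := fun t => by
    obtain ⟨x, rfl⟩ := hρsurj t
    exact ⟨Ideal.Quotient.mk J0 x, rfl⟩
  -- the remaining equation
  let toP : Pol →ₐ[A] P := (Ideal.Quotient.mkₐ A J0).comp (IsScalarTower.toAlgHom A Pol R0)
  obtain ⟨F₀, hF₀mem, hF₀gen⟩ : ∃ F₀ : Pol, F₀ ∈ Ideal.span (Set.range F) ∧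
      ∀ k, toP (F k) ∈ Ideal.span {toP F₀} := by
    by_cases h : ∀ k, ∃ l, sel l = k
    · refine ⟨0, zero_mem _, fun k => ?_⟩
      obtain ⟨l, rfl⟩ := h k
      rw [show toP (F (sel l)) = 0 from Ideal.Quotient.eq_zero_iff_mem.2 (Ideal.subset_span ⟨l, rfl⟩)]
      exact zero_mem _
    · push Not at h
      obtain ⟨k0, hk0⟩ := h
      refine ⟨F k0, Ideal.subset_span ⟨k0, rfl⟩, fun k => ?_⟩
      by_cases hk : ∃ l, sel l = k
      · obtain ⟨l, rfl⟩ := hk
        rw [show toP (F (sel l)) = 0 from Ideal.Quotient.eq_zero_iff_mem.2 (Ideal.subset_span ⟨l, rfl⟩)]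
        exact zero_mem _
      · obtain rfl : k = k0 := by
          by_contra hne
          have h1 : ({k, k0} ∪ Finset.univ.image sel : Finset (Fin c)).card ≤ c := by
            simpa using Finset.card_le_univ ({k, k0} ∪ Finset.univ.image sel : Finset (Fin c))
          rw [Finset.card_union_of_disjoint, Finset.card_pair hne, Finset.card_image_of_injective _ hsel,
            Finset.card_univ, Fintype.card_fin] at h1
          · omega
          · rw [Finset.disjoint_left]
            intro x hx hx'
            obtain ⟨l, -, rfl⟩ := Finset.mem_image.1 hx'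
            rcases Finset.mem_insert.1 hx with h2 | h2
            · exact hk ⟨l, h2⟩
            · exact hk0 l (Finset.mem_singleton.1 h2)
        exact Ideal.mem_span_singleton_self _
  let G : P := toP F₀
  have hπtoP : ∀ x, π (toP x) = algebraMap (RR F) T (mkB x) := fun x => hρ x
  have hπG : π G = 0 := by
    rw [hπtoP, show mkB F₀ = 0 from Ideal.Quotient.eq_zero_iff_mem.2 hF₀mem, map_zero]
  have hker : RingHom.ker π.toRingHom = Ideal.span {G} := by
    refine le_antisymm (fun y hy => ?_) ((Ideal.span_singleton_le_iff_mem _).2 hπG)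
    obtain ⟨x, rfl⟩ := Ideal.Quotient.mk_surjective y
    obtain ⟨a, k, ha⟩ := IsLocalization.Away.surj δ x
    have h1 : algebraMap (RR F) T (mkB k) = 0 := by
      rw [← hρ, ← ha, map_mul, map_pow, show ρ x = 0 from hy, zero_mul]
    obtain ⟨⟨_, N, rfl⟩, hN⟩ := (IsLocalization.map_eq_zero_iff (Submonoid.powers g) T _).1 h1
    have h2 : δ ^ N * k ∈ Ideal.span (Set.range F) := by
      rw [← Ideal.Quotient.eq_zero_iff_mem, map_mul, map_pow]; exact hN
    have h3 : toP (δ ^ N * k) ∈ Ideal.span {G} := by
      have h4 : toP (δ ^ N * k) ∈ (Ideal.span (Set.range F)).map toP.toRingHom := Ideal.mem_map_of_mem _ h2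
      rw [Ideal.map_span] at h4
      exact (Ideal.span_le.2 (by rintro _ ⟨_, ⟨j, rfl⟩, rfl⟩; exact hF₀gen j)) h4
    rw [map_mul, map_pow] at h3
    have hu : IsUnit (toP δ) := (IsLocalization.Away.algebraMap_isUnit δ).map (Ideal.Quotient.mk J0)
    have h5 : toP k ∈ Ideal.span {G} := ((Ideal.span {G}).unit_mul_mem_iff_mem (hu.pow N)).1 h3
    rw [show toP k = Ideal.Quotient.mk J0 x * toP δ ^ a by
      show Ideal.Quotient.mk J0 (algebraMap Pol R0 k) = _
      rw [← ha, map_mul, map_pow]; rfl, mul_comm] at h5
    exact ((Ideal.span {G}).unit_mul_mem_iff_mem (hu.pow a)).1 h5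
  -- the point
  let θT : T →+* q.ResidueField := IsLocalization.Away.lift g (g := algebraMap (RR F) q.ResidueField)
    (isUnit_iff_ne_zero.2 fun h => hg (Ideal.algebraMap_residueField_eq_zero.1 h))
  have hθT : ∀ x, θT (algebraMap (RR F) T x) = algebraMap (RR F) q.ResidueField x := fun x =>
    IsLocalization.Away.lift_eq ..
  let θ : P →+* q.ResidueField := θT.comp π.toRingHom
  have hθ : ∀ x, θ (toP x) = resPoly F q x := fun x => by
    show θT (π (toP x)) = _
    rw [hπtoP, hθT]; rfl
  letI : Algebra P q.ResidueField := θ.toAlgebra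
  haveI : IsScalarTower A P q.ResidueField := IsScalarTower.of_algebraMap_eq (R := A) (S := P) (A := q.ResidueField) fun a => by
    show algebraMap A q.ResidueField a = θT (π (algebraMap A P a))
    rw [π.commutes, IsScalarTower.algebraMap_apply A (RR F) T, hθT, ← IsScalarTower.algebraMap_apply]
  -- derivations at the point in terms of gradients
  have hval : ∀ (e : Derivation A P q.ResidueField) (x : Pol),
      e (toP x) = ∑ i, grad F q x i * e (toP (X i)) := by
    intro e x
    let e' : Derivation A Pol q.ResidueField := Derivation.mk' (e.toLinearMap.comp toP.toLinearMap) fun a b => by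
      rw [Algebra.smul_def, Algebra.smul_def]
      show e (toP (a * b)) = resPoly F q a * e (toP b) + resPoly F q b * e (toP a)
      rw [map_mul, e.leibniz, Algebra.smul_def, Algebra.smul_def, RingHom.algebraMap_toAlgebra, hθ, hθ]
    have h := (etCoord_X A (m + 2)).expand hpdX e' x
    refine h.trans (Finset.sum_congr rfl fun i _ => ?_)
    rw [Algebra.smul_def]
    rfl
  have hdF : ∀ i, θ (pd i G) = 0 := by
    intro i
    let e : Derivation A P q.ResidueField := (Algebra.linearMap P q.ResidueField).compDer (pd i)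
    show e (toP F₀) = 0
    let φ : (Fin (m + 2) → q.ResidueField) →ₗ[q.ResidueField] q.ResidueField :=
      Fintype.linearCombination q.ResidueField fun l => e (toP (X l))
    have hφ : ∀ x, e (toP x) = φ (grad F q x) := fun x => by
      rw [hval, Fintype.linearCombination_apply]; rfl
    have hkill : LinearMap.ker (evalDX F q) ≤ LinearMap.ker φ := by
      rw [← hspan, Submodule.span_le]
      rintro _ ⟨k, rfl⟩
      show φ (grad F q (F (sel k))) = 0
      rw [← hφ, show toP (F (sel k)) = 0 from Ideal.Quotient.eq_zero_iff_mem.2 (Ideal.subset_span ⟨k, rfl⟩), map_zero]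
    rw [hφ]
    refine hkill ?_
    show evalDX F q (grad F q F₀) = 0
    rw [evalDX_grad, Ideal.Quotient.eq_zero_iff_mem.2 hF₀mem, map_zero, tmul_zero]
  have hdet : θ (Matrix.of fun i j => pd i (pd j G)).det ≠ 0 := by
    intro h0
    rw [RingHom.map_det] at h0
    obtain ⟨v, hv0, hv⟩ := Matrix.exists_vecMul_eq_zero_iff.2 h0
    let e : Derivation A P q.ResidueField := ∑ i, v i • (Algebra.linearMap P q.ResidueField).compDer (pd i)
    have he : ∀ x, e x = ∑ i, v i * θ (pd i x) := fun x => by
      simp only [e]
      rw [← Derivation.coeFnAddMonoidHom_apply, map_sum, Finset.sum_apply]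
      rfl
    have heG : e G = 0 := by rw [he]; simp [hdF]
    have hedG : ∀ j, e (pd j G) = 0 := fun j => by
      rw [he]
      have := congrFun hv j
      simpa [Matrix.vecMul, dotProduct] using this
    let I : Ideal P := Ideal.span (insert G (Set.range fun i => pd i G))
    have hIθ : ∀ y ∈ I, θ y = 0 := by
      intro y hy
      refine (Ideal.span_le (I := RingHom.ker θ)).2 ?_ hy
      rintro _ (rfl | ⟨i, rfl⟩)
      · show θT (π G) = 0
        rw [hπG, map_zero]
      · exact hdF i
    have heI : ∀ y ∈ I, e y = 0 := by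
      intro y hy
      induction hy using Submodule.span_induction with
      | mem x hx =>
        rcases hx with rfl | ⟨i, rfl⟩
        · exact heG
        · exact hedG i
      | zero => exact map_zero e
      | add a b _ _ ha hb => rw [map_add, ha, hb, add_zero]
      | smul r a ha ha' =>
        rw [smul_eq_mul, e.leibniz, ha', smul_zero, zero_add, Algebra.smul_def,
          show algebraMap P q.ResidueField a = 0 from hIθ a ha, zero_mul]
    -- descend to the presented algebra
    let e' : Pol →ₗ[A] q.ResidueField := e.toLinearMap.comp toP.toLinearMap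
    have he'F : ∀ y ∈ Ideal.span (Set.range F), e' y = 0 := by
      intro y hy
      have h4 : toP y ∈ (Ideal.span (Set.range F)).map toP.toRingHom := Ideal.mem_map_of_mem _ hy
      rw [Ideal.map_span] at h4
      refine heI _ ((Ideal.span_le (I := I)).2 ?_ h4)
      rintro _ ⟨_, ⟨j, rfl⟩, rfl⟩
      exact (Ideal.span_mono (by simp) : Ideal.span {G} ≤ I) (hF₀gen j)
    let dB : Derivation A (RR F) q.ResidueField := Derivation.mk'
      (Submodule.liftQ ((Ideal.span (Set.range F)).restrictScalars A) e' he'F) fun a b => by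
        obtain ⟨a, rfl⟩ := Ideal.Quotient.mk_surjective a
        obtain ⟨b, rfl⟩ := Ideal.Quotient.mk_surjective b
        rw [← map_mul, Algebra.smul_def, Algebra.smul_def]
        show e (toP (a * b)) = resPoly F q a * e (toP b) + resPoly F q b * e (toP a)
        rw [map_mul, e.leibniz, Algebra.smul_def, Algebra.smul_def, RingHom.algebraMap_toAlgebra, hθ, hθ]
    have hFitI : ∀ p : Pol, mkB p ∈ Fitt.ideal (RR F) Ω[(RR F)⁄A] 1 → toP p ∈ I := by
      intro p hp
      let C := P ⧸ I
      let ψ : RR F →ₐ[A] C := Ideal.Quotient.liftₐ _ ((Ideal.Quotient.mkₐ A I).comp toP) fun y hy => by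
        refine Ideal.Quotient.eq_zero_iff_mem.2 ?_
        have h4 : toP y ∈ (Ideal.span (Set.range F)).map toP.toRingHom := Ideal.mem_map_of_mem _ hy
        rw [Ideal.map_span] at h4
        refine (Ideal.span_le (I := I)).2 ?_ h4
        rintro _ ⟨_, ⟨j, rfl⟩, rfl⟩
        exact (Ideal.span_mono (by simp) : Ideal.span {G} ≤ I) (hF₀gen j)
      suffices h : ψ (mkB p) = 0 from Ideal.Quotient.eq_zero_iff_mem.1 h
      letI instC : CommRing C := Ideal.Quotient.commRing I
      letI : Algebra (RR F) C := @RingHom.toAlgebra (RR F) C _ instC.toCommSemiring ψ.toRingHom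
      haveI : IsScalarTower A (RR F) C := IsScalarTower.of_algebraMap_eq fun a => (ψ.commutes a).symm
      have hdC : ∀ l : Fin 2, ∃ d : Derivation A (RR F) C, ∀ i, d (mkB (X i)) = Ideal.Quotient.mk I (pd l (toP (X i))) := by
        intro l
        let d0 : Pol →ₗ[A] C :=
          ((Ideal.Quotient.mkₐ A I).toLinearMap.comp (pd l).toLinearMap).comp toP.toLinearMap
        have hd0 : ∀ y ∈ Ideal.span (Set.range F), d0 y = 0 := by
          intro y hy
          refine Ideal.Quotient.eq_zero_iff_mem.2 ?_
          have h4 : toP y ∈ (Ideal.span (Set.range F)).map toP.toRingHom := Ideal.mem_map_of_mem _ hy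
          rw [Ideal.map_span] at h4
          have h5 : toP y ∈ Ideal.span {G} :=
            (Ideal.span_le.2 (by rintro _ ⟨_, ⟨j, rfl⟩, rfl⟩; exact hF₀gen j)) h4
          obtain ⟨r, hr⟩ := Ideal.mem_span_singleton'.1 h5
          show pd l (toP y) ∈ I
          rw [← hr, (pd l).leibniz]
          exact add_mem (Ideal.mul_mem_left _ _ (Ideal.subset_span (Or.inr ⟨l, rfl⟩)))
            (Ideal.mul_mem_right _ _ (Ideal.subset_span (Or.inl rfl)))
        refine ⟨Derivation.mk' (Submodule.liftQ ((Ideal.span (Set.range F)).restrictScalars A) d0 hd0) fun a b => ?_,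
          fun i => rfl⟩
        obtain ⟨a, rfl⟩ := Ideal.Quotient.mk_surjective a
        obtain ⟨b, rfl⟩ := Ideal.Quotient.mk_surjective b
        rw [← map_mul, Algebra.smul_def, Algebra.smul_def]
        show Ideal.Quotient.mk I (pd l (toP (a * b))) =
          Ideal.Quotient.mk I (toP a) * Ideal.Quotient.mk I (pd l (toP b)) +
          Ideal.Quotient.mk I (toP b) * Ideal.Quotient.mk I (pd l (toP a))
        rw [map_mul, (pd l).leibniz, map_add, smul_eq_mul, smul_eq_mul, map_mul, map_mul]
      choose dC hdC using hdC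
      rw [FittingLib.ideal_eq_J (dX F) (span_dX F)] at hp
      generalize mkB p = y at hp ⊢
      induction hp using Submodule.span_induction with
      | mem y hy =>
        obtain ⟨M, S, hS, hM, rfl⟩ := hy
        rw [AlgHom.map_det]
        have hne : i₁ ≠ i₂ := by
          intro h
          have := hli.injective (a₁ := Fin.natAdd m 0) (a₂ := Fin.natAdd m 1) (by simp [h])
          simp [Fin.ext_iff] at this
        refine det_eq_zero_of_orthogonal _ i₁ i₂ hne
          (fun i => Ideal.Quotient.mk I (pd 0 (toP (X i)))) (fun i => Ideal.Quotient.mk I (pd 1 (toP (X i))))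
          ?_ ?_ ?_ ?_ S hS fun i hi => ?_
        · show Ideal.Quotient.mk I (pd 0 (z 0)) = 1
          rw [hpd]; simp
        · show Ideal.Quotient.mk I (pd 0 (z 1)) = 0
          rw [hpd]; simp
        · show Ideal.Quotient.mk I (pd 1 (z 0)) = 0
          rw [hpd]; simp
        · show Ideal.Quotient.mk I (pd 1 (z 1)) = 1
          rw [hpd]; simp
        · have h0 := FittingLib.mem_rel.1 (hM i hi)
          have : ∀ l : Fin 2, ∑ j, ψ (M i j) * Ideal.Quotient.mk I (pd l (toP (X j))) = 0 := fun l => by
            have := congrArg (dC l).liftKaehlerDifferential h0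
            rw [map_sum, map_zero] at this
            refine Eq.trans (Finset.sum_congr rfl fun j _ => ?_) this
            rw [map_smul, show (dC l).liftKaehlerDifferential (dX F j) = dC l (mkB (X j)) from
              Derivation.liftKaehlerDifferential_comp_D _ _, hdC, Algebra.smul_def]
            rfl
          exact ⟨this 0, this 1⟩
      | zero => exact map_zero ψ
      | add a b _ _ ha hb => rw [map_add, ha, hb, add_zero]
      | smul r a _ ha => rw [smul_eq_mul, map_mul, ha, mul_zero]
    have hzero := deriv_eq_zero_of_fitting F q hFit dB fun x hx => by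
      obtain ⟨x, rfl⟩ := Ideal.Quotient.mk_surjective x
      exact heI _ (hFitI x hx)
    refine hv0 (funext fun l => ?_)
    have h6 : e (z l) = 0 := hzero (mkB (![X i₁, X i₂] l))
    rw [he, Finset.sum_eq_single l] at h6
    · simpa [hpd] using h6
    · intro i _ hi; simp [hpd, hi]
    · simp
  refine ⟨g, hg, P, inferInstance, inferInstance, z, pd, G, π, RingHom.ker θT, hz, hpd, hπsurj, hker,
    RingHom.ker_isPrime _, ?_, ?_, fun i => hdF i, hdet⟩
  · ext x
    rw [Ideal.mem_comap, RingHom.mem_ker, hθT, Ideal.algebraMap_residueField_eq_zero]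
  · show θT (π G) = 0
    rw [hπG, map_zero]

end Groth.Agent.NodalEtale14
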