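import Groth.Agent.Lib.NodalEtale14.Hyper
import Mathlib.RingTheory.Localization.Away.Basic
import Mathlib.LinearAlgebra.Dimension.OrzechProperty

/-!
# The local models at all points
-/

set_option autoImplicit false
set_option linter.style.haveILetI false
set_option backward.isDefEq.respectTransparency.types false

universe u

open MvPolynomial TensorProduct

noncomputable section

namespace Groth.Agent.NodalEtale14

/-- The node model over a ring. -/
abbrev Node (A : Type u) [CommRing A] (a : A) : Type u :=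
  MvPolynomial (Fin 2) A ⧸ Ideal.span {(MvPolynomial.X 0 * MvPolynomial.X 1 - MvPolynomial.C a : MvPolynomial (Fin 2) A)}

/-- The local model data at a prime. -/
def HasModel {A B : Type u} [CommRing A] [CommRing B] [Algebra A B] (q : Ideal B) : Prop :=
  ∃ (A' : Type u) (_ : CommRing A') (_ : Algebra A A') (_ : Algebra.Etale A A')
    (U : Type u) (_ : CommRing U) (i : A' →+* U) (j : B →+* U),
    j.Etale ∧ j.comp (algebraMap A B) = i.comp (algebraMap A A') ∧
    ∃ (a : A') (ψ : Node A' a →+* U),
      ψ.Etale ∧ ψ.comp ((Ideal.Quotient.mk _).comp MvPolynomial.C) = i ∧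
      ∃ Q : Ideal U, Q.IsPrime ∧ Q.comap j = q

variable {A : Type u} [CommRing A] {n c : ℕ} (F : Fin c → MvPolynomial (Fin n) A) (q : Ideal (RR F)) [q.IsPrime]

theorem hasModel_of_le [Algebra.FormallyUnramified A (RR F ⧸ Fitt.ideal (RR F) Ω[(RR F)⁄A] 1)]
    (hFit : Fitt.ideal (RR F) Ω[(RR F)⁄A] 1 ≤ q) (hc : c + 1 ≤ n) : HasModel (A := A) q := by
  obtain ⟨g, hg, P, _, _, z, pd, F₀, π, Q, hz, hpd, hπ, hker, hQ, hQq, hF₀, hdF, hdet⟩ := exists_chart F q hFit hc
  obtain ⟨A', _, _, _, U, _, i, j, hj, hcomp, a, ψ, hψ, hψi, QU, hQU, hQUq⟩ :=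
    exists_model hz hpd F₀ π hπ hker (Q.comap π.toRingHom) hF₀ hdF hdet
  refine ⟨A', inferInstance, inferInstance, inferInstance, U, inferInstance, i,
    j.comp (algebraMap (RR F) (Localization.Away g)), ?_, ?_, a, ψ, hψ, hψi, QU, hQU, ?_⟩
  · exact RingHom.Etale.stableUnderComposition _ _
      (RingHom.etale_algebraMap.2 (Algebra.Etale.of_isLocalizationAway g)) hj
  · rw [RingHom.comp_assoc, ← IsScalarTower.algebraMap_eq, hcomp]
  · rw [← Ideal.comap_comap] at hQUq
    rw [← Ideal.comap_comap, Ideal.comap_injective_of_surjective π.toRingHom hπ hQUq, hQq]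

/-- The node model with parameter one is the punctured line. -/
theorem exists_node_one (A : Type u) [CommRing A] :
    ∃ φ : Node A 1 →+* Localization.Away (X 0 : MvPolynomial (Fin 1) A), φ.Etale ∧
      ∀ x, φ (Ideal.Quotient.mk _ (C x)) = algebraMap (MvPolynomial (Fin 1) A) _ (C x) := by
  let r : MvPolynomial (Fin 1) A := X 0
  let L := Localization.Away r
  obtain ⟨y, hy⟩ : ∃ y : L, algebraMap (MvPolynomial (Fin 1) A) L r * y = 1 :=
    isUnit_iff_exists_inv.1 (IsLocalization.Away.algebraMap_isUnit r)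
  let f0 : MvPolynomial (Fin 2) A →ₐ[A] L := aeval ![algebraMap (MvPolynomial (Fin 1) A) L r, y]
  let φ : Node A 1 →+* L := Ideal.Quotient.lift _ f0.toRingHom (fun x hx => by
    obtain ⟨b, rfl⟩ := Ideal.mem_span_singleton'.1 hx
    simp [f0, hy])
  let Nd := Node A 1
  let h0 : MvPolynomial (Fin 1) A →ₐ[A] Nd := aeval fun _ => Ideal.Quotient.mk _ (X 0)
  have hu : IsUnit (h0 r) := by
    refine IsUnit.of_mul_eq_one (Ideal.Quotient.mk _ (X 1)) ?_
    simp only [h0, r, aeval_X, ← map_mul]
    rw [← map_one (Ideal.Quotient.mk _), Ideal.Quotient.eq]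
    exact Ideal.subset_span (by simp)
  let φ' : L →+* Nd := IsLocalization.Away.lift r (g := h0.toRingHom) hu
  have hφ' : ∀ x, φ' (algebraMap _ L x) = h0 x := fun x => IsLocalization.Away.lift_eq ..
  have hφh : ∀ x, φ (h0 x) = algebraMap _ L x := fun x => by
    have : (φ.comp h0.toRingHom) = algebraMap (MvPolynomial (Fin 1) A) L := by
      refine MvPolynomial.ringHom_ext (fun a => ?_) (fun k => ?_)
      · show φ (h0 (C a)) = _
        rw [show h0 (C a) = Ideal.Quotient.mk _ (C a) from aeval_C _ a]
        show f0 (C a) = _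
        rw [show f0 (C a) = algebraMap A L a from aeval_C _ a,
          IsScalarTower.algebraMap_apply A (MvPolynomial (Fin 1) A) L]
        rfl
      · fin_cases k
        show φ (h0 (X 0)) = _
        rw [show h0 (X 0) = Ideal.Quotient.mk _ (X 0) from aeval_X _ _]
        show f0 (X 0) = _
        exact (aeval_X _ _).trans rfl
    exact RingHom.congr_fun this x
  have h1 : φ.comp φ' = RingHom.id L := IsLocalization.ringHom_ext (Submonoid.powers r) (RingHom.ext fun x => by
    simp [hφ', hφh])
  have h2 : φ'.comp φ = RingHom.id Nd := by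
    refine Ideal.Quotient.ringHom_ext (MvPolynomial.ringHom_ext (fun a => ?_) (fun k => ?_))
    · show φ' (f0 (C a)) = Ideal.Quotient.mk _ (C a)
      rw [show f0 (C a) = algebraMap (MvPolynomial (Fin 1) A) L (C a) from (aeval_C _ a).trans
        (IsScalarTower.algebraMap_apply A (MvPolynomial (Fin 1) A) L a), hφ']
      simp [h0]
      rfl
    · show φ' (f0 (X k)) = Ideal.Quotient.mk _ (X k)
      fin_cases k
      · simp [f0, hφ', h0, r]
      · have hyk : φ' y = Ideal.Quotient.mk _ (X 1) := by
          refine hu.mul_left_cancel ?_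
          rw [← hφ', ← map_mul, hy, map_one]
          refine Eq.symm ?_
          rw [hφ']
          simp only [h0, r, aeval_X, ← map_mul]
          rw [← map_one (Ideal.Quotient.mk _), Ideal.Quotient.eq]
          exact Ideal.subset_span (by simp)
        simpa [f0] using hyk
  refine ⟨φ, RingHom.Etale.of_bijective ⟨?_, ?_⟩, fun x => ?_⟩
  · exact Function.LeftInverse.injective (g := φ') fun x => RingHom.congr_fun h2 x
  · exact Function.RightInverse.surjective (g := φ') fun x => RingHom.congr_fun h1 x
  · exact (aeval_C _ x).trans (IsScalarTower.algebraMap_apply A (MvPolynomial (Fin 1) A) L x)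

theorem hasModel_of_not_le [Algebra.FormallyUnramified A (RR F ⧸ Fitt.ideal (RR F) Ω[(RR F)⁄A] 1)]
    (hFit : ¬ Fitt.ideal (RR F) Ω[(RR F)⁄A] 1 ≤ q) (hc : c + 1 ≤ n) : HasModel (A := A) q := by
  classical
  haveI : Module.Finite (RR F) Ω[(RR F)⁄A] := inferInstance
  have hd : Module.finrank q.ResidueField (q.ResidueField ⊗[RR F] Ω[(RR F)⁄A]) ≤ 1 :=
    (FittingLib.not_le_iff_finrank_fiber_le 1 q).1 hFit
  have hrk := LinearMap.finrank_range_add_finrank_ker (evalDX F q)
  rw [LinearMap.range_eq_top.2 (evalDX_surjective F q), finrank_top, Module.finrank_fin_fun] at hrk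
  have hle : Module.finrank q.ResidueField (LinearMap.ker (evalDX F q)) ≤ c := by
    rw [← span_grad F q]
    exact (finrank_range_le_card _).trans_eq (Fintype.card_fin c)
  have hcn : n = c + 1 := by omega
  subst hcn
  have hW : Module.finrank q.ResidueField (q.ResidueField ⊗[RR F] Ω[(RR F)⁄A]) = 1 := by omega
  have hli : LinearIndependent q.ResidueField (fun k => grad F q (F k)) := by
    rw [linearIndependent_iff_card_eq_finrank_span, Set.finrank, span_grad F q, Fintype.card_fin]
    omega
  obtain ⟨i₀, hi₀⟩ : ∃ i, evalDX F q (Pi.single i 1) ≠ 0 := by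
    by_contra h
    push Not at h
    have h0 : evalDX F q = 0 := (Pi.basisFun q.ResidueField _).ext fun i => by simpa using h i
    haveI : Subsingleton (q.ResidueField ⊗[RR F] Ω[(RR F)⁄A]) := subsingleton_of_forall_eq 0 fun w => by
      obtain ⟨v, rfl⟩ := evalDX_surjective F q w
      rw [h0]; rfl
    rw [Module.finrank_zero_of_subsingleton] at hW
    omega
  have hliv : LinearIndependent q.ResidueField (Fin.append (fun k => grad F q (F k)) ![Pi.single i₀ 1]) := by
    rw [Fintype.linearIndependent_iff]
    intro g hg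
    rw [Fin.sum_univ_add] at hg
    simp only [Fin.append_left, Fin.append_right, Fin.sum_univ_one, Matrix.cons_val_zero] at hg
    have h0 : ∀ k, evalDX F q (grad F q (F k)) = 0 := fun k =>
      show grad F q (F k) ∈ LinearMap.ker (evalDX F q) by rw [← span_grad F q]; exact Submodule.subset_span ⟨_, rfl⟩
    have h1 := congrArg (evalDX F q) hg
    simp only [map_add, map_sum, map_smul, h0, smul_zero, Finset.sum_const_zero, zero_add, map_zero, smul_eq_zero,
      hi₀, or_false] at h1
    rw [h1, zero_smul, add_zero] at hg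
    have h3 := Fintype.linearIndependent_iff.1 hli (fun k => g (Fin.castAdd 1 k)) hg
    intro i
    refine Fin.addCases (fun k => h3 k) (fun k => ?_) i
    fin_cases k
    exact h1
  -- the shift making the coordinate invertible
  obtain ⟨t, ht⟩ : ∃ t : A, resPoly F q (X i₀ + C t) ≠ 0 := by
    by_cases h : resPoly F q (X i₀) = 0
    · exact ⟨1, by rw [map_add, h, zero_add, C_1, map_one]; exact one_ne_zero⟩
    · exact ⟨0, by rwa [C_0, add_zero]⟩
  let Pol := MvPolynomial (Fin (c + 1)) A
  let gv : Fin (c + 1) → Pol := Fin.append F ![X i₀ + C t]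
  let pdX : Fin (c + 1) → Derivation A Pol Pol := fun i => pderiv i
  have hpdX : ∀ i j, pdX i (X j) = if i = j then 1 else 0 := fun i j => by
    show pderiv i (X j) = _
    rcases eq_or_ne i j with rfl | h
    · rw [if_pos rfl]; exact pderiv_X_self i
    · rw [if_neg h]; exact pderiv_X_of_ne h.symm
  let δ : Pol := (Matrix.of fun i j => pdX i (gv j)).det
  have hδ : resPoly F q δ ≠ 0 := by
    have hM : (resPoly F q).mapMatrix (Matrix.of fun i j => pdX i (gv j)) =
        Matrix.transpose (Matrix.of (Fin.append (fun k => grad F q (F k)) ![Pi.single i₀ (1 : q.ResidueField)])) := by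
      ext i j
      refine Fin.addCases (fun k => ?_) (fun k => ?_) j
      · simp [gv, pdX, grad]
      · fin_cases k
        rcases eq_or_ne i i₀ with rfl | h
        · simp [gv, pdX]; rw [show pderiv i (C t : Pol) = 0 from pderiv_C, map_zero, add_zero]; exact (congrArg (resPoly F q) (pderiv_X_self i)).trans (map_one _)
        · simp [gv, pdX, h]; rw [show pderiv i (C t : Pol) = 0 from pderiv_C, map_zero, add_zero]; exact (congrArg (resPoly F q) (pderiv_X_of_ne h.symm)).trans (map_zero _)
    rw [RingHom.map_det, hM, Matrix.det_transpose]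
    exact ((Matrix.isUnit_iff_isUnit_det _).1 (Matrix.linearIndependent_rows_iff_isUnit.1 hliv)).ne_zero
  let dd : Pol := δ * (X i₀ + C t)
  let R0 := Localization.Away dd
  have hR0 : EtCoord A (Fin.append (fun k => algebraMap Pol R0 (F k)) (fun _ : Fin 1 => algebraMap Pol R0 (X i₀ + C t))) := by
    have h := (etCoord_X A (c + 1)).of_det_away hpdX gv dd (Dvd.intro _ rfl)
    convert h using 1
    funext i
    refine Fin.addCases (fun k => ?_) (fun k => ?_) i
    · simp [gv, R0] <;> rfl
    · simp [gv, R0, Subsingleton.elim k 0] <;> rfl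
  let J0 : Ideal R0 := Ideal.span (Set.range fun k => algebraMap Pol R0 (F k))
  let U := R0 ⧸ J0
  have hz : EtCoord A (fun _ : Fin 1 => Ideal.Quotient.mk J0 (algebraMap Pol R0 (X i₀ + C t))) := hR0.quotient
  let e : MvPolynomial (Fin 1) A →ₐ[A] U := aeval fun _ => Ideal.Quotient.mk J0 (algebraMap Pol R0 (X i₀ + C t))
  let j : RR F →+* U := Ideal.Quotient.lift _ ((Ideal.Quotient.mk J0).comp (algebraMap Pol R0)) fun x hx => by
    refine Ideal.Quotient.eq_zero_iff_mem.2 ?_
    have h4 := Ideal.mem_map_of_mem (algebraMap Pol R0) hx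
    rwa [Ideal.map_span, ← Set.range_comp] at h4
  have hj : j.Etale := by
    refine etale_of_surjective (Ideal.Quotient.mk (Ideal.span (Set.range F))) Ideal.Quotient.mk_surjective
      (algebraMap Pol R0) (RingHom.etale_algebraMap.2 (Algebra.Etale.of_isLocalizationAway dd)) J0 ?_ j
      (RingHom.ext fun x => rfl)
    rw [Ideal.mk_ker, Ideal.map_span, ← Set.range_comp]
    rfl
  have hu : IsUnit (e.toRingHom (X 0)) := by
    show IsUnit (e (X 0))
    rw [show e (X 0) = Ideal.Quotient.mk J0 (algebraMap Pol R0 (X i₀ + C t)) from aeval_X _ _]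
    refine IsUnit.map _ (isUnit_of_dvd_unit (map_dvd _ (Dvd.intro_left δ rfl))
      (IsLocalization.Away.algebraMap_isUnit dd))
  obtain ⟨φ, hφ, hφC⟩ := exists_node_one A
  let L := Localization.Away (X 0 : MvPolynomial (Fin 1) A)
  let ε : L →+* U := IsLocalization.Away.lift (X 0) (g := e.toRingHom) hu
  have hε : ∀ x, ε (algebraMap _ L x) = e x := fun x => IsLocalization.Away.lift_eq ..
  have hεet : ε.Etale := by
    letI : Algebra (MvPolynomial (Fin 1) A) U := e.toRingHom.toAlgebra
    letI : Algebra L U := ε.toAlgebra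
    haveI : IsScalarTower (MvPolynomial (Fin 1) A) L U := IsScalarTower.of_algebraMap_eq fun x => (hε x).symm
    haveI : Algebra.Etale (MvPolynomial (Fin 1) A) U := hz
    haveI : Algebra.Etale (MvPolynomial (Fin 1) A) L := Algebra.Etale.of_isLocalizationAway (X 0)
    exact RingHom.etale_algebraMap.2 (Algebra.Etale.of_restrictScalars (MvPolynomial (Fin 1) A) L U)
  let θ0 : R0 →+* q.ResidueField := IsLocalization.Away.lift dd (g := resPoly F q)
    (isUnit_iff_ne_zero.2 (by rw [map_mul]; exact mul_ne_zero hδ ht))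
  have hθ0 : ∀ x, θ0 (algebraMap Pol R0 x) = resPoly F q x := fun x => IsLocalization.Away.lift_eq ..
  let θU : U →+* q.ResidueField := Ideal.Quotient.lift J0 θ0 fun x hx => by
    refine (Ideal.span_le (I := RingHom.ker θ0)).2 ?_ hx
    rintro _ ⟨k, rfl⟩
    show θ0 (algebraMap Pol R0 (F k)) = 0
    rw [hθ0]
    show algebraMap (RR F) q.ResidueField _ = 0
    rw [Ideal.Quotient.eq_zero_iff_mem.2 (Ideal.subset_span (Set.mem_range_self k)), map_zero]
  refine ⟨A, inferInstance, inferInstance, inferInstance, U, inferInstance, algebraMap A U, j, hj, ?_, 1,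
    ε.comp φ, RingHom.Etale.stableUnderComposition _ _ hφ hεet, ?_, RingHom.ker θU, RingHom.ker_isPrime _, ?_⟩
  · rw [Algebra.algebraMap_self, RingHom.comp_id]
    refine RingHom.ext fun a => ?_
    show Ideal.Quotient.mk J0 (algebraMap Pol R0 (algebraMap A Pol a)) = algebraMap A U a
    rw [← IsScalarTower.algebraMap_apply]
    rfl
  · refine RingHom.ext fun a => ?_
    show ε (φ (Ideal.Quotient.mk _ (C a))) = algebraMap A U a
    rw [hφC, hε]
    simp [e]
  · ext x
    obtain ⟨p, rfl⟩ := Ideal.Quotient.mk_surjective x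
    rw [Ideal.mem_comap, RingHom.mem_ker]
    show θ0 (algebraMap Pol R0 p) = 0 ↔ _
    rw [hθ0, ← Ideal.algebraMap_residueField_eq_zero (I := q)]
    rfl

theorem hasModel [Algebra.FormallyUnramified A (RR F ⧸ Fitt.ideal (RR F) Ω[(RR F)⁄A] 1)] (hc : c + 1 ≤ n) :
    HasModel (A := A) q := by
  by_cases h : Fitt.ideal (RR F) Ω[(RR F)⁄A] 1 ≤ q
  · exact hasModel_of_le F q h hc
  · exact hasModel_of_not_le F q h hc

end Groth.Agent.NodalEtale14
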