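import Groth.Agent.Lib.NodalEtale14.Local
import Mathlib.AlgebraicGeometry.Pullbacks

/-!
# The node models are base changes of the universal one
-/

set_option autoImplicit false
set_option linter.style.haveILetI false
set_option backward.isDefEq.respectTransparency.types false

universe u

open CategoryTheory CategoryTheory.Limits MvPolynomial AlgebraicGeometry

noncomputable section

namespace Groth.Agent.NodalEtale14

/-- The parameter ring. -/
abbrev Za : Type u := MvPolynomial (Fin 1) (ULift.{u} ℤ)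

/-- The universal node. -/
abbrev Zq : Type u :=
  MvPolynomial (Fin 3) (ULift.{u} ℤ) ⧸ Ideal.span
    {(MvPolynomial.X 0 * MvPolynomial.X 1 - MvPolynomial.X 2 : MvPolynomial (Fin 3) (ULift.{u} ℤ))}

/-- The parameter of the universal node. -/
def zaMap : Za.{u} →+* Zq.{u} :=
  (Ideal.Quotient.mk _).comp
    (MvPolynomial.aeval (fun _ : Fin 1 => (MvPolynomial.X 2 : MvPolynomial (Fin 3) (ULift.{u} ℤ)))).toRingHom

theorem exists_isPullback (A : Type u) [CommRing A] (a : A) :
    ∃ (h : Spec (CommRingCat.of A) ⟶ Spec (CommRingCat.of Za.{u}))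
      (r : Spec (CommRingCat.of (Node A a)) ⟶ Spec (CommRingCat.of Zq.{u})),
      IsPullback r (Spec.map (CommRingCat.ofHom ((Ideal.Quotient.mk _).comp MvPolynomial.C)))
        (Spec.map (CommRingCat.ofHom zaMap.{u})) h := by
  let ιZ : ULift.{u} ℤ →+* A := (Int.castRingHom A).comp ULift.ringEquiv.toRingHom
  have uniq : ∀ {B : Type u} [CommRing B] (φ ψ : ULift.{u} ℤ →+* B), φ = ψ := fun φ ψ => by
    have h : φ.comp ULift.ringEquiv.symm.toRingHom = ψ.comp ULift.ringEquiv.symm.toRingHom := Subsingleton.elim _ _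
    refine RingHom.ext fun x => ?_
    rw [← (ULift.ringEquiv : ULift.{u} ℤ ≃+* ℤ).symm_apply_apply x]
    exact RingHom.congr_fun h (ULift.ringEquiv x)
  let hA : Za.{u} →+* A := eval₂Hom ιZ fun _ => a
  let cN : A →+* Node A a := (Ideal.Quotient.mk _).comp C
  let v : Fin 3 → Node A a := ![Ideal.Quotient.mk _ (X 0), Ideal.Quotient.mk _ (X 1), cN a]
  let rN : Zq.{u} →+* Node A a := Ideal.Quotient.lift _ (eval₂Hom (cN.comp ιZ) v) (fun x hx => by
    obtain ⟨b, rfl⟩ := Ideal.mem_span_singleton'.1 hx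
    rw [map_mul]
    refine mul_eq_zero_of_right _ ?_
    simp only [map_sub, map_mul, eval₂Hom_X', v, cN]
    show Ideal.Quotient.mk _ (X 0) * Ideal.Quotient.mk _ (X 1) - Ideal.Quotient.mk _ (C a) = 0
    rw [← map_mul, ← map_sub]
    exact Ideal.Quotient.eq_zero_iff_mem.2 (Ideal.mem_span_singleton_self _))
  have w : CommSq (CommRingCat.ofHom zaMap.{u}) (CommRingCat.ofHom hA) (CommRingCat.ofHom (R := Zq.{u}) (S := Node A a) rN) (CommRingCat.ofHom (R := A) (S := Node A a) cN) := by
    refine ⟨CommRingCat.hom_ext (MvPolynomial.ringHom_ext' (uniq _ _) fun i => ?_)⟩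
    show rN (zaMap (X i)) = cN (hA (X i))
    simp [zaMap, rN, hA, v, cN]
  refine ⟨Spec.map (CommRingCat.ofHom hA), Spec.map (CommRingCat.ofHom (R := Zq.{u}) (S := Node A a) rN),
    isPullback_SpecMap_of_isPushout _ _ _ _ (IsPushout.of_isColimit' w (PushoutCocone.isColimitAux' _ fun s => ?_))⟩
  let T := (s.pt : CommRingCat.{u})
  let σ₁ : Zq.{u} →+* T := s.inl.hom
  let σ₂ : A →+* T := s.inr.hom
  have hcomp : ∀ x : Za.{u}, σ₁ (zaMap x) = σ₂ (hA x) := fun x => RingHom.congr_fun (congrArg CommRingCat.Hom.hom s.condition) x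
  have ha : σ₁ (Ideal.Quotient.mk _ (X 2)) = σ₂ a := by
    have := hcomp (X 0)
    simpa [zaMap, hA] using this
  let d0 : MvPolynomial (Fin 2) A →+* T :=
    eval₂Hom σ₂ ![σ₁ (Ideal.Quotient.mk _ (X 0)), σ₁ (Ideal.Quotient.mk _ (X 1))]
  let d : Node A a →+* T := Ideal.Quotient.lift _ d0 (fun x hx => by
    obtain ⟨b, rfl⟩ := Ideal.mem_span_singleton'.1 hx
    rw [map_mul]
    refine mul_eq_zero_of_right _ ?_
    simp only [d0, map_sub, map_mul, eval₂Hom_X', eval₂Hom_C, Matrix.cons_val_zero, Matrix.cons_val_one]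
    rw [← ha, ← map_mul, ← map_sub, ← map_mul, ← map_sub,
      Ideal.Quotient.eq_zero_iff_mem.2 (Ideal.mem_span_singleton_self _), map_zero])
  refine ⟨CommRingCat.ofHom d, ?_, ?_, fun {m} h1 h2 => ?_⟩
  · refine CommRingCat.hom_ext (Ideal.Quotient.ringHom_ext (MvPolynomial.ringHom_ext' (uniq _ _) fun i => ?_))
    show d (rN (Ideal.Quotient.mk _ (X i))) = σ₁ (Ideal.Quotient.mk _ (X i))
    fin_cases i
    · simp [rN, v, d, d0]
    · simp [rN, v, d, d0]
    · simp [rN, v, d, d0, cN, ha]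
  · refine CommRingCat.hom_ext (RingHom.ext fun x => ?_)
    show d (cN x) = σ₂ x
    simp [d, d0, cN]
  · refine CommRingCat.hom_ext (Ideal.Quotient.ringHom_ext (MvPolynomial.ringHom_ext (fun x => ?_) fun i => ?_))
    · show m.hom (cN x) = d (cN x)
      rw [show d (cN x) = σ₂ x by simp [d, d0, cN]]
      exact RingHom.congr_fun (congrArg CommRingCat.Hom.hom h2) x
    · show m.hom (Ideal.Quotient.mk _ (X i)) = d (Ideal.Quotient.mk _ (X i))
      fin_cases i
      · have h3 : m.hom (rN (Ideal.Quotient.mk _ (X 0))) = σ₁ (Ideal.Quotient.mk _ (X 0)) :=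
          RingHom.congr_fun (congrArg CommRingCat.Hom.hom h1) (Ideal.Quotient.mk _ (X 0))
        simpa [rN, v, d, d0] using h3
      · have h3 : m.hom (rN (Ideal.Quotient.mk _ (X 1))) = σ₁ (Ideal.Quotient.mk _ (X 1)) :=
          RingHom.congr_fun (congrArg CommRingCat.Hom.hom h1) (Ideal.Quotient.mk _ (X 1))
        simpa [rN, v, d, d0] using h3

end Groth.Agent.NodalEtale14
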