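import Groth.Agent.Lib.NodalEtale14.Scheme
import Groth.Agent.Lib.NodalEtale14.Universal
import Mathlib.RingTheory.Unramified.LocalRing
import Mathlib.RingTheory.DiscreteValuationRing.TFAE
import Mathlib.RingTheory.MvPolynomial.Localization
import Mathlib.RingTheory.QuasiFinite.Basic
import Mathlib.RingTheory.Filtration

/-!
# The étale local structure of nodal families
-/

set_option autoImplicit false
set_option linter.style.haveILetI false
set_option backward.isDefEq.respectTransparency.types false

universe u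

open CategoryTheory CategoryTheory.Limits AlgebraicGeometry

noncomputable section

namespace Groth.Agent.NodalEtale14

/-- The étale local structure of a nodal family at any point. -/
theorem exists_local_structure {X S : Scheme.{u}} (f : X ⟶ S) (hf : Curv2.IsNodalFamily f) (x : X) :
    ∃ (A U : Type u) (_ : CommRing A) (_ : CommRing U) (i : A →+* U) (a : A) (ψ : Node A a →+* U)
      (gV : Spec (CommRingCat.of A) ⟶ S) (gU : Spec (CommRingCat.of U) ⟶ X),
      ψ.Etale ∧ ψ.comp ((Ideal.Quotient.mk _).comp MvPolynomial.C) = i ∧ Etale gV ∧ Etale gU ∧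
      gU ≫ f = Spec.map (CommRingCat.ofHom i) ≫ gV ∧ x ∈ Set.range gU.base := by
  obtain ⟨R, _, n, c, F, jX, _, jS, _, y, hcomm, hy, hc, hunr⟩ := exists_gci_chart f hf x
  obtain ⟨A, _, _, hA, U, _, i, j, hj, hij, a, ψ, hψ, hψi, Q, hQ, hQq⟩ := @hasModel R _ n c F y.asIdeal y.isPrime hunr hc
  haveI : Etale (Spec.map (CommRingCat.ofHom (algebraMap R A))) :=
    (HasRingHomProperty.Spec_iff (P := @Etale)).2 (RingHom.etale_algebraMap.2 hA)
  haveI : Etale (Spec.map (CommRingCat.ofHom j)) := (HasRingHomProperty.Spec_iff (P := @Etale)).2 hj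
  refine ⟨A, U, inferInstance, inferInstance, i, a, ψ, Spec.map (CommRingCat.ofHom (algebraMap R A)) ≫ jS,
    Spec.map (CommRingCat.ofHom j) ≫ jX, hψ, hψi, inferInstance, inferInstance, ?_, ⟨⟨Q, hQ⟩, ?_⟩⟩
  · rw [Category.assoc, hcomm, ← Category.assoc, ← Category.assoc, ← Spec.map_comp, ← Spec.map_comp,
      ← CommRingCat.ofHom_comp, ← CommRingCat.ofHom_comp, hij]
  · rw [Scheme.Hom.comp_apply]
    conv_rhs => rw [← hy]
    exact congrArg jX (PrimeSpectrum.ext hQq)

/-- An algebra étale over a DVR is, near a point of the closed fibre, a DVR with the same uniformizer. -/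
theorem exists_away_dvr {R A : Type u} [CommRing R] [IsDomain R] [IsDiscreteValuationRing R] [CommRing A]
    [Algebra R A] [Algebra.Etale R A] {ϖ : R} (hϖ : Irreducible ϖ) (P : Ideal A) [P.IsPrime]
    (hP : P.comap (algebraMap R A) = IsLocalRing.maximalIdeal R) :
    ∃ g ∉ P, ∃ (_ : IsDomain (Localization.Away g)) (_ : IsDiscreteValuationRing (Localization.Away g)),
      Irreducible (algebraMap R (Localization.Away g) ϖ) ∧
      ∀ a : Localization.Away g, a = 0 ∨ ∃ (w : (Localization.Away g)ˣ) (n : ℕ),
        a = w * algebraMap R (Localization.Away g) ϖ ^ n := by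
  classical
  haveI : IsNoetherianRing A := Algebra.FiniteType.isNoetherianRing R A
  haveI : Finite (PrimeSpectrum R) := by
    have h : ∀ q : PrimeSpectrum R, q.asIdeal = ⊥ ∨ q.asIdeal = IsLocalRing.maximalIdeal R := fun q =>
      (em (q.asIdeal = ⊥)).imp_right fun hq => IsLocalRing.eq_maximalIdeal (q.isPrime.isMaximal hq)
    refine Finite.of_injective (fun q : PrimeSpectrum R => decide (q.asIdeal = ⊥)) fun q q' hqq => ?_
    simp only [decide_eq_decide] at hqq
    rcases h q with h1 | h1
    · exact PrimeSpectrum.ext (h1.trans (hqq.1 h1).symm)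
    · rcases h q' with h2 | h2
      · exact PrimeSpectrum.ext ((hqq.2 h2).trans h2.symm)
      · exact PrimeSpectrum.ext (h1.trans h2.symm)
  haveI : Finite (PrimeSpectrum A) := by
    have hfin : ∀ q : PrimeSpectrum R, ((PrimeSpectrum.comap (algebraMap R A)) ⁻¹' {q}).Finite := fun q =>
      Algebra.QuasiFinite.finite_comap_preimage_singleton q
    refine Set.finite_univ_iff.1 ((Set.finite_iUnion hfin).subset fun z _ => ?_)
    exact Set.mem_iUnion.2 ⟨_, rfl⟩
  let s : Set (PrimeSpectrum A) := {z | ¬ z.asIdeal ≤ P}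
  have hs : ∀ z : s, ∃ g : A, g ∈ z.1.asIdeal ∧ g ∉ P := fun z => SetLike.not_le_iff_exists.1 z.2
  choose gz hgz hgzP using hs
  haveI := Fintype.ofFinite s
  let g := ∏ z : s, gz z
  have hg : g ∉ P := fun h => by
    obtain ⟨z, -, hz⟩ := (Ideal.IsPrime.prod_mem_iff (p := P)).1 h
    exact hgzP z hz
  refine ⟨g, hg, ?_⟩
  let R' := Localization.Away g
  have hle : ∀ z : PrimeSpectrum A, g ∉ z.asIdeal → z.asIdeal ≤ P := fun z hz => by
    by_contra h
    refine hz ((Ideal.IsPrime.prod_mem_iff (p := z.asIdeal)).2 ⟨⟨z, h⟩, Finset.mem_univ _, hgz ⟨z, h⟩⟩)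
  have hat : IsLocalization.AtPrime R' P := by
    refine IsLocalization.of_le (Submonoid.powers g) P.primeCompl ?_ ?_
    · rintro _ ⟨k, rfl⟩
      exact fun h => hg (Ideal.IsPrime.mem_of_pow_mem inferInstance k h)
    · intro y hy
      by_contra hne
      obtain ⟨M, hM, hyM⟩ := exists_max_ideal_of_mem_nonunits hne
      have hgM : g ∉ M.comap (algebraMap A R') := fun h =>
        hM.ne_top (Ideal.eq_top_of_isUnit_mem _ h (IsLocalization.Away.algebraMap_isUnit g))
      exact hy (hle ⟨_, Ideal.comap_isPrime _ M⟩ hgM hyM)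
  haveI := hat
  haveI : IsLocalRing R' := IsLocalization.AtPrime.isLocalRing R' P
  haveI : Algebra.Etale A R' := Algebra.Etale.of_isLocalizationAway g
  haveI : Algebra.Etale R R' := Algebra.Etale.comp R A R'
  haveI : IsNoetherianRing R' := IsLocalization.isNoetherianRing (Submonoid.powers g) R' inferInstance
  haveI : IsLocalHom (algebraMap R R') := by
    refine ((IsLocalRing.local_hom_TFAE (algebraMap R R')).out 0 4).2 ?_
    rw [IsScalarTower.algebraMap_eq R A R', ← Ideal.comap_comap]
    exact (congrArg (Ideal.comap (algebraMap R A)) (IsLocalization.AtPrime.comap_maximalIdeal R' P)).trans hP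
  have hmax : IsLocalRing.maximalIdeal R' = Ideal.span {algebraMap R R' ϖ} := by
    rw [← Algebra.FormallyUnramified.map_maximalIdeal (R := R) (S := R'), hϖ.maximalIdeal_eq, Ideal.map_span,
      Set.image_singleton]
  let π := algebraMap R R' ϖ
  have hreg : ∀ a : R', π * a = 0 → a = 0 := fun a ha => by
    have hf : IsSMulRegular R' π := IsSMulRegular.of_flat (fun b c h => mul_left_cancel₀ hϖ.ne_zero h)
    exact hf (show π • a = π • 0 by simpa using ha)
  have hdec : ∀ a : R', a = 0 ∨ ∃ (w : R'ˣ) (n : ℕ), a = w * π ^ n := by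
    intro a
    by_cases ha : a = 0
    · exact Or.inl ha
    right
    have hN : ∃ N, a ∉ (IsLocalRing.maximalIdeal R') ^ N := by
      by_contra h
      push Not at h
      have : a ∈ ⨅ N, (IsLocalRing.maximalIdeal R') ^ N := Submodule.mem_iInf _ |>.2 h
      rw [Ideal.iInf_pow_eq_bot_of_isLocalRing _ (IsLocalRing.maximalIdeal.isMaximal R').ne_top] at this
      exact ha this
    obtain ⟨N, hN⟩ := hN
    induction N generalizing a with
    | zero => simp at hN
    | succ N ih =>
      by_cases hu : IsUnit a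
      · exact ⟨hu.unit, 0, by simp⟩
      obtain ⟨b, rfl⟩ : π ∣ a := Ideal.mem_span_singleton.1 (hmax ▸ (IsLocalRing.mem_maximalIdeal a).2 hu)
      obtain ⟨w, n, rfl⟩ := ih b (fun hb => ha (by rw [hb, mul_zero])) fun hb => hN (by
        rw [pow_succ', hmax] at *
        exact Ideal.mul_mem_mul (Ideal.mem_span_singleton_self _) hb)
      exact ⟨w, n + 1, by ring⟩
  have hπpow : ∀ n, π ^ n ≠ 0 := by
    intro n
    induction n with
    | zero => simp
    | succ n ih => exact fun h => ih (hreg _ (by rw [← pow_succ', h]))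
  haveI : IsDomain R' := by
    refine @IsDomain.mk _ _ ?_ inferInstance
    refine isCancelMulZero_iff_noZeroDivisors.2 ⟨fun {a b} h => ?_⟩
    rcases hdec a with ha | ⟨w, n, rfl⟩
    · exact Or.inl ha
    rcases hdec b with hb | ⟨w', n', rfl⟩
    · exact Or.inr hb
    exfalso
    refine hπpow (n + n') ?_
    have : ((w * w' : R'ˣ) : R') * π ^ (n + n') = 0 := by rw [Units.val_mul, pow_add, ← h]; ring
    exact (Units.mul_right_eq_zero _).1 this
  have hirr : Irreducible π := by
    have hnu : ¬ IsUnit π := fun h =>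
      (IsLocalRing.maximalIdeal.isMaximal R').ne_top (hmax ▸ Ideal.span_singleton_eq_top.2 h)
    have hp : Prime π := by
      refine (Ideal.span_singleton_prime (fun h => hπpow 1 (by rw [pow_one, h]))).1 ?_
      rw [← hmax]
      exact (IsLocalRing.maximalIdeal.isMaximal R').isPrime
    exact hp.irreducible
  haveI : IsDiscreteValuationRing R' := IsDiscreteValuationRing.ofHasUnitMulPowIrreducibleFactorization
    ⟨π, hirr, fun {a} ha => by
      obtain ⟨w, n, rfl⟩ := (hdec a).resolve_left ha
      exact ⟨n, w, by ring⟩⟩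
  exact ⟨inferInstance, inferInstance, hirr, hdec⟩

/-- The node model with a unit multiplied into the parameter. -/
theorem exists_unit_twist {A : Type u} [CommRing A] (w : Aˣ) (a : A) :
    ∃ φ : Node A a →+* Node A (w * a), φ.Etale ∧
      φ.comp ((Ideal.Quotient.mk _).comp MvPolynomial.C) = (Ideal.Quotient.mk _).comp MvPolynomial.C := by
  let σ : MvPolynomial (Fin 2) A →ₐ[A] MvPolynomial (Fin 2) A :=
    MvPolynomial.aeval ![MvPolynomial.C (↑w⁻¹ : A) * MvPolynomial.X 0, MvPolynomial.X 1]
  let τ : MvPolynomial (Fin 2) A →ₐ[A] MvPolynomial (Fin 2) A :=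
    MvPolynomial.aeval ![MvPolynomial.C (w : A) * MvPolynomial.X 0, MvPolynomial.X 1]
  have h1 : σ.comp τ = AlgHom.id A _ := MvPolynomial.algHom_ext fun i => by
    fin_cases i <;> simp [σ, τ]; rw [← mul_assoc, ← map_mul]; simp
  have h2 : τ.comp σ = AlgHom.id A _ := MvPolynomial.algHom_ext fun i => by
    fin_cases i <;> simp [σ, τ]; rw [← mul_assoc, ← map_mul]; simp
  have hσ : Function.Bijective σ.toRingHom :=
    (AlgEquiv.ofAlgHom σ τ h1 h2).bijective
  let G : A → MvPolynomial (Fin 2) A := fun b => MvPolynomial.X 0 * MvPolynomial.X 1 - MvPolynomial.C b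
  have hG : σ (G a) = MvPolynomial.C (↑w⁻¹ : A) * G (w * a) := by
    simp only [σ, G, map_sub, map_mul, MvPolynomial.aeval_X, MvPolynomial.aeval_C, MvPolynomial.algebraMap_eq,
      Matrix.cons_val_zero, Matrix.cons_val_one, mul_sub, ← mul_assoc]
    rw [← map_mul, ← map_mul, Units.inv_mul, one_mul]
  have hJ : (RingHom.ker (Ideal.Quotient.mk (Ideal.span {G a}))).map σ.toRingHom = Ideal.span {G (w * a)} := by
    rw [Ideal.mk_ker, Ideal.map_span, Set.image_singleton]
    show Ideal.span {σ (G a)} = _
    rw [hG, Ideal.span_singleton_mul_left_unit (w⁻¹.isUnit.map MvPolynomial.C)]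
  let φ : Node A a →+* Node A (w * a) := Ideal.quotientMap _ σ.toRingHom (Ideal.map_le_iff_le_comap.1 (by
    conv_lhs => rw [← Ideal.mk_ker (I := Ideal.span {G a})]
    exact hJ.le))
  refine ⟨φ, etale_of_surjective _ Ideal.Quotient.mk_surjective σ.toRingHom (RingHom.Etale.of_bijective hσ) _ hJ φ
    (RingHom.ext fun x => rfl), RingHom.ext fun x => ?_⟩
  show Ideal.Quotient.mk _ (σ (MvPolynomial.C x)) = Ideal.Quotient.mk _ (MvPolynomial.C x)
  rw [show σ (MvPolynomial.C x) = MvPolynomial.C x from MvPolynomial.aeval_C _ x]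

/-- The node model localizes. -/
theorem exists_away_model {A U : Type u} [CommRing A] [CommRing U] (i : A →+* U) (a : A) (ψ : Node A a →+* U)
    (hψ : ψ.Etale) (hψi : ψ.comp ((Ideal.Quotient.mk _).comp MvPolynomial.C) = i) (g : A) :
    ∃ (i' : Localization.Away g →+* Localization.Away (i g))
      (ψ' : Node (Localization.Away g) (algebraMap A (Localization.Away g) a) →+* Localization.Away (i g)),
      i'.comp (algebraMap A (Localization.Away g)) = (algebraMap U (Localization.Away (i g))).comp i ∧
      ψ'.Etale ∧ ψ'.comp ((Ideal.Quotient.mk _).comp MvPolynomial.C) = i' := by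
  let L := Localization.Away g
  let UL := Localization.Away (i g)
  let i' : L →+* UL := IsLocalization.Away.lift g (g := (algebraMap U UL).comp i)
    (IsLocalization.Away.algebraMap_isUnit (i g))
  have hi' : i'.comp (algebraMap A L) = (algebraMap U UL).comp i :=
    RingHom.ext fun x => IsLocalization.Away.lift_eq g (IsLocalization.Away.algebraMap_isUnit (i g)) x
  let G : MvPolynomial (Fin 2) A := MvPolynomial.X 0 * MvPolynomial.X 1 - MvPolynomial.C a
  let GLoc : MvPolynomial (Fin 2) L := MvPolynomial.X 0 * MvPolynomial.X 1 - MvPolynomial.C (algebraMap A L a)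
  let m : MvPolynomial (Fin 2) A →+* MvPolynomial (Fin 2) L := MvPolynomial.map (algebraMap A L)
  have hmG : m G = GLoc := by simp [m, G, GLoc]
  have hm : m.Etale := by
    letI : Algebra (MvPolynomial (Fin 2) A) (MvPolynomial (Fin 2) L) := m.toAlgebra
    haveI : IsLocalization.Away (MvPolynomial.C g : MvPolynomial (Fin 2) A) (MvPolynomial (Fin 2) L) := by
      have h := MvPolynomial.isLocalization (σ := Fin 2) (Submonoid.powers g) L
      rw [Submonoid.map_powers] at h
      exact h
    exact Algebra.Etale.of_isLocalizationAway (MvPolynomial.C g : MvPolynomial (Fin 2) A)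
  let μ : Node A a →+* Node L (algebraMap A L a) := Ideal.quotientMap _ m (Ideal.map_le_iff_le_comap.1 (by
    rw [Ideal.map_span, Set.image_singleton]; exact le_of_eq (congrArg (fun x => Ideal.span {x}) hmG)))
  have hμ : μ.Etale := etale_of_surjective _ Ideal.Quotient.mk_surjective m hm _
    (by rw [Ideal.mk_ker, Ideal.map_span, Set.image_singleton]; exact congrArg (fun x => Ideal.span {x}) hmG) μ
    (RingHom.ext fun x => rfl)
  let P : MvPolynomial (Fin 2) L →+* UL :=
    MvPolynomial.eval₂Hom i' fun k => algebraMap U UL (ψ (Ideal.Quotient.mk _ (MvPolynomial.X k)))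
  have hP : P.comp m = ((algebraMap U UL).comp ψ).comp (Ideal.Quotient.mk _) := by
    refine MvPolynomial.ringHom_ext (fun x => ?_) fun k => ?_
    · show P (m (MvPolynomial.C x)) = algebraMap U UL (ψ (Ideal.Quotient.mk _ (MvPolynomial.C x)))
      rw [show m (MvPolynomial.C x) = MvPolynomial.C (algebraMap A L x) from MvPolynomial.map_C _ x]
      simp only [P, MvPolynomial.eval₂Hom_C]
      rw [show ψ (Ideal.Quotient.mk _ (MvPolynomial.C x)) = i x from RingHom.congr_fun hψi x]
      exact RingHom.congr_fun hi' x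
    · simp [P, m]
  let ψ' : Node L (algebraMap A L a) →+* UL := Ideal.Quotient.lift _ P (fun x hx => by
    obtain ⟨b, rfl⟩ := Ideal.mem_span_singleton'.1 hx
    rw [map_mul, show (MvPolynomial.X 0 * MvPolynomial.X 1 - MvPolynomial.C (algebraMap A L a) : MvPolynomial (Fin 2) L) = m G from hmG.symm, ← RingHom.comp_apply, hP, RingHom.comp_apply,
      Ideal.Quotient.eq_zero_iff_mem.2 (Ideal.mem_span_singleton_self _), map_zero, mul_zero])
  have hcomp : ψ'.comp μ = (algebraMap U UL).comp ψ := Ideal.Quotient.ringHom_ext hP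
  refine ⟨i', ψ', hi', ?_, RingHom.ext fun x => (MvPolynomial.eval₂Hom_C i' _ x : P (MvPolynomial.C x) = i' x)⟩
  letI : Algebra (Node A a) (Node L (algebraMap A L a)) := μ.toAlgebra
  letI : Algebra (Node L (algebraMap A L a)) UL := ψ'.toAlgebra
  letI : Algebra (Node A a) UL := ((algebraMap U UL).comp ψ).toAlgebra
  haveI : IsScalarTower (Node A a) (Node L (algebraMap A L a)) UL := IsScalarTower.of_algebraMap_eq' hcomp.symm
  haveI : Algebra.Etale (Node A a) (Node L (algebraMap A L a)) := hμ
  haveI : Algebra.Etale (Node A a) UL := RingHom.Etale.stableUnderComposition _ _ hψ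
    (RingHom.etale_algebraMap.2 (Algebra.Etale.of_isLocalizationAway (i g)))
  exact RingHom.etale_algebraMap.2 (Algebra.Etale.of_restrictScalars (Node A a) (Node L (algebraMap A L a)) UL)

end Groth.Agent.NodalEtale14
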