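import Groth.Agent.Lib.NodalEtale14.Section
import Mathlib.RingTheory.TensorProduct.Quotient
import Mathlib.RingTheory.RingHom.Etale

/-!
# The étale local model of a hypersurface with a nondegenerate critical point
-/

set_option autoImplicit false
set_option linter.style.haveILetI false
set_option backward.isDefEq.respectTransparency.types false

universe u

open MvPolynomial TensorProduct

noncomputable section

namespace Groth.Agent.NodalEtale14

variable {A P : Type u} [CommRing A] [CommRing P] [Algebra A P]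

/-- Splitting without assuming the leading coefficient is a unit. -/
theorem exists_split' {z w : Fin 2 → P} {pd : Fin 2 → Derivation A P P} (hz : EtCoord A z)
    (hpd : ∀ i j, pd i (z j) = if i = j then 1 else 0) (hdw : ∀ i j, pd i (w j) = if i = j then 1 else 0)
    (a b c : P) (q : Ideal P) [q.IsPrime] (hw : ∀ i, w i ∈ q) (hD : b ^ 2 - 4 * a * c ∉ q) :
    ∃ (P' : Type u) (_ : CommRing P') (_ : Algebra A P') (_ : Algebra P P') (_ : IsScalarTower A P P')
      (_ : Algebra.Etale P P') (u v : P') (Q : Ideal P'), Q.IsPrime ∧ Q.comap (algebraMap P P') = q ∧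
      EtCoord A ![u, v] ∧ u * v = algebraMap P P' (a * w 0 ^ 2 + b * (w 0 * w 1) + c * w 1 ^ 2) := by
  by_cases ha : a ∈ q
  swap
  · exact exists_split hz hpd hdw a b c q hw ha hD
  by_cases hc : c ∈ q
  swap
  · let e : Fin 2 → Fin 2 := ![1, 0]
    have he : ∀ i j, e i = e j ↔ i = j := fun i j => by fin_cases i <;> fin_cases j <;> simp [e]
    have hz' : EtCoord A (fun i => z (e i)) := hz.of_det hpd _ (by
      rw [Matrix.det_fin_two]; simp [e, hpd])
    have hq : a * w 0 ^ 2 + b * (w 0 * w 1) + c * w 1 ^ 2 =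
        c * (fun i => w (e i)) 0 ^ 2 + b * ((fun i => w (e i)) 0 * (fun i => w (e i)) 1) +
          a * (fun i => w (e i)) 1 ^ 2 := by simp [e]; ring
    rw [hq]
    refine exists_split (pd := fun i => pd (e i)) hz' (fun i j => ?_) (fun i j => ?_) c b a q
      (fun i => hw _) hc (by rwa [show b ^ 2 - 4 * c * a = b ^ 2 - 4 * a * c by ring])
    · rw [hpd]; simp [he]
    · rw [hdw]; simp [he]
  let z' : Fin 2 → P := ![z 0, z 1 - z 0]
  let w' : Fin 2 → P := ![w 0, w 1 - w 0]
  let pd' : Fin 2 → Derivation A P P := ![pd 0 + pd 1, pd 1]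
  have hz' : EtCoord A z' := hz.of_det hpd _ (by
    rw [Matrix.det_fin_two]; simp [z', hpd])
  have hq : a * w 0 ^ 2 + b * (w 0 * w 1) + c * w 1 ^ 2 =
      (a + b + c) * w' 0 ^ 2 + (b + 2 * c) * (w' 0 * w' 1) + c * w' 1 ^ 2 := by simp [w']; ring
  rw [hq]
  refine exists_split (pd := pd') hz' (fun i j => ?_) (fun i j => ?_) _ _ _ q (fun i => ?_) ?_ ?_
  · fin_cases i <;> fin_cases j <;> simp [pd', z', hpd]
  · fin_cases i <;> fin_cases j <;> simp [pd', w', hdw]
  · fin_cases i
    · simpa [w'] using hw 0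
    · simpa [w'] using sub_mem (hw 1) (hw 0)
  · intro h
    have hb : b ∈ q := by
      have := sub_mem h (add_mem ha hc)
      rwa [show a + b + c - (a + c) = b by ring] at this
    exact hD (sub_mem (Ideal.pow_mem_of_mem q hb 2 two_pos) (Ideal.mul_mem_right _ _ (Ideal.mul_mem_left _ _ ha)))
  · rwa [show (b + 2 * c) ^ 2 - 4 * (a + b + c) * c = b ^ 2 - 4 * a * c by ring]

/-- Splitting along a section. -/
theorem exists_of_section {z : Fin 2 → P} {pd : Fin 2 → Derivation A P P} (hz : EtCoord A z)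
    (hpd : ∀ i j, pd i (z j) = if i = j then 1 else 0) (σ : P →ₐ[A] A) (F : P) (hF : ∀ i, σ (pd i F) = 0)
    {κ : Type u} [Field κ] (χ : A →+* κ) (hH : χ (σ ((Matrix.of fun i j => pd i (pd j F)).det)) ≠ 0) :
    ∃ (P' : Type u) (_ : CommRing P') (_ : Algebra A P') (_ : Algebra P P') (_ : IsScalarTower A P P')
      (_ : Algebra.Etale P P') (u v : P') (Q : Ideal P'), Q.IsPrime ∧
      Q.comap (algebraMap P P') = RingHom.ker (χ.comp σ.toRingHom) ∧
      EtCoord A ![u, v] ∧ u * v - algebraMap A P' (-σ F) = algebraMap P P' F := by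
  obtain ⟨g, a, b, c, hg1, habc, hdisc⟩ := exists_quadratic hz hpd σ F hF
  let θ : P →+* κ := χ.comp σ.toRingHom
  let P1 := Localization.Away g
  have hz1 : EtCoord A (fun i => algebraMap P P1 (z i)) := hz.away g
  obtain ⟨pd1, hpd1⟩ := hz1.exists_deriv
  let w1 : Fin 2 → P1 := fun i => algebraMap P P1 (shift σ z i)
  have hdw1 : ∀ i j, pd1 i (w1 j) = if i = j then 1 else 0 := fun i j => by
    rw [hz.deriv_map hpd hpd1]
    simp only [shift, map_sub, Derivation.map_algebraMap, sub_zero, hpd]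
    split_ifs <;> simp
  let θ1 : P1 →+* κ := IsLocalization.Away.lift g (g := θ) (show IsUnit (θ g) by simp [θ, hg1])
  have hθ1 : ∀ x, θ1 (algebraMap P P1 x) = θ x := fun x => IsLocalization.Away.lift_eq ..
  let q1 := RingHom.ker θ1
  haveI : q1.IsPrime := RingHom.ker_isPrime _
  obtain ⟨ig, hig⟩ := isUnit_iff_exists_inv.1 (IsLocalization.Away.algebraMap_isUnit (S := P1) g)
  have hθig : θ1 ig = 1 := by
    have := congrArg θ1 hig
    simpa [hθ1, θ, hg1] using this
  have hD : (algebraMap P P1 b * (ig * ig)) ^ 2 - 4 * (algebraMap P P1 a * (ig * ig)) *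
      (algebraMap P P1 c * (ig * ig)) ∉ q1 := by
    intro h
    have h1 : θ (b ^ 2 - 4 * a * c) = 0 := by
      rw [← hθ1]
      simpa [q1, hθig, map_ofNat] using h
    have h2 : χ (σ (b ^ 2 - 4 * a * c)) = 0 := h1
    rw [hdisc, map_neg, neg_eq_zero] at h2
    exact hH h2
  obtain ⟨P2, _, _, _, _, _, u, v, Q, hQ, hQq, hc2, huv⟩ := exists_split' hz1 hpd1 hdw1 _ _ _ q1
    (fun i => by simp [q1, w1, hθ1, θ, map_shift]) hD
  letI : Algebra P P2 := ((algebraMap P1 P2).comp (algebraMap P P1)).toAlgebra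
  haveI : IsScalarTower P P1 P2 := IsScalarTower.of_algebraMap_eq' rfl
  haveI : IsScalarTower A P P2 := IsScalarTower.of_algebraMap_eq fun x => by
    rw [IsScalarTower.algebraMap_apply P P1 P2, ← IsScalarTower.algebraMap_apply A P P1,
      ← IsScalarTower.algebraMap_apply A P1 P2]
  haveI : Algebra.Etale P P1 := Algebra.Etale.of_isLocalizationAway g
  haveI : Algebra.Etale P P2 := Algebra.Etale.comp P P1 P2
  refine ⟨P2, inferInstance, inferInstance, inferInstance, inferInstance, inferInstance, u, v, Q, hQ, ?_, hc2, ?_⟩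
  · rw [IsScalarTower.algebraMap_eq P P1 P2, ← Ideal.comap_comap, hQq]
    ext x
    simp [q1, hθ1, θ]
  have e1 : algebraMap P P1 (F - algebraMap A P (σ F)) =
      algebraMap P P1 a * (ig * ig) * w1 0 ^ 2 + algebraMap P P1 b * (ig * ig) * (w1 0 * w1 1) +
        algebraMap P P1 c * (ig * ig) * w1 1 ^ 2 := by
    have := congrArg (algebraMap P P1) habc
    simp only [map_mul, map_add, map_pow] at this
    simp only [w1]
    linear_combination (ig * ig) * this - algebraMap P P1 (F - algebraMap A P (σ F)) * (algebraMap P P1 g * ig + 1) * hig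
  rw [huv, ← e1, ← IsScalarTower.algebraMap_apply P P1 P2, map_sub, map_neg, ← IsScalarTower.algebraMap_apply A P P2]
  ring

/-- The étale local structure of a relative hypersurface at a nondegenerate critical point. -/
theorem exists_model_aux {z : Fin 2 → P} {pd : Fin 2 → Derivation A P P} (hz : EtCoord A z)
    (hpd : ∀ i j, pd i (z j) = if i = j then 1 else 0) (F : P) {B : Type u} [CommRing B] [Algebra A B]
    (π : P →ₐ[A] B) (hπ : Function.Surjective π) (hker : RingHom.ker π.toRingHom = Ideal.span {F})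
    (q : Ideal P) [q.IsPrime] (hFq : F ∈ q) (hdF : ∀ i, pd i F ∈ q)
    (hH : (Matrix.of fun i j => pd i (pd j F)).det ∉ q)
    {A' : Type u} [CommRing A'] [Algebra A A'] [Algebra.Etale A A'] (τ : P →ₐ[A] A') (hτF : ∀ i, τ (pd i F) = 0)
    (χ : A' →+* q.ResidueField) (hχτ : ∀ x, χ (τ x) = algebraMap P q.ResidueField x) :
    ∃ (U : Type u) (_ : CommRing U) (i : A' →+* U) (j : B →+* U),
      j.Etale ∧ j.comp (algebraMap A B) = i.comp (algebraMap A A') ∧
      ∃ (a : A') (ψ : (MvPolynomial (Fin 2) A' ⧸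
          Ideal.span {(MvPolynomial.X 0 * MvPolynomial.X 1 - MvPolynomial.C a : MvPolynomial (Fin 2) A')}) →+* U),
        ψ.Etale ∧ ψ.comp ((Ideal.Quotient.mk _).comp MvPolynomial.C) = i ∧
        ∃ Q : Ideal U, Q.IsPrime ∧ Q.comap (j.comp π.toRingHom) = q := by
  -- base change
  let P' := A' ⊗[A] P
  let ι : P →ₐ[A] P' := Algebra.TensorProduct.includeRight
  let z' : Fin 2 → P' := fun i => (1 : A') ⊗ₜ[A] z i
  have hz' : EtCoord A' z' := hz.baseChange A'
  obtain ⟨pd', hpd'⟩ := hz'.exists_deriv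
  let σ : P' →ₐ[A'] A' := Algebra.TensorProduct.lift (AlgHom.id A' A') τ fun _ _ => Commute.all _ _
  have hσι : ∀ x, σ (ι x) = τ x := fun x =>
    (Algebra.TensorProduct.lift_tmul _ _ _ (1 : A') x).trans (by simp)
  let F' := ι F
  let pdA : Fin 2 → Derivation A P' P' := fun i => (pd' i).restrictScalars A
  have hpdA : ∀ i j, pdA i (ι (z j)) = if i = j then 1 else 0 := fun i j => hpd' i j
  have hder : ∀ i x, pd' i (ι x) = ι (pd i x) := fun i x => @EtCoord.deriv_hom A P _ _ _ 2 z hz pd hpd P' _ _ ι pdA hpdA i x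
  have hF' : ∀ i, σ (pd' i F') = 0 := fun i => by
    rw [hder, hσι]
    exact hτF i
  have hdet : σ ((Matrix.of fun i j => pd' i (pd' j F')).det) = τ (Matrix.of fun i j => pd i (pd j F)).det := by
    have : (Matrix.of fun i j => pd' i (pd' j F')) =
        ι.toRingHom.mapMatrix (Matrix.of fun i j => pd i (pd j F)) :=
      Matrix.ext fun i j => by simp [F', hder]
    rw [this, ← RingHom.map_det]
    exact hσι _
  obtain ⟨P2, _, _, _, _, _, u, v, Q, hQ, hQq, hc2, hrel'⟩ := exists_of_section hz' hpd' σ F' hF' χ (by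
    rw [hdet, hχτ]
    exact fun h => hH (Ideal.algebraMap_residueField_eq_zero.1 h))
  haveI := hQ
  let ι2 : P →+* P2 := (algebraMap P' P2).comp ι.toRingHom
  have hι2 : ι2.Etale := by
    refine RingHom.Etale.stableUnderComposition _ _ ?_ (RingHom.etale_algebraMap.2 inferInstance)
    have h := RingHom.Etale.isStableUnderBaseChange
    letI := Algebra.TensorProduct.rightAlgebra (R := A) (A := A') (B := P)
    exact @h A A' P P' _ _ _ _ _ _ _ _ _ (by infer_instance) (by infer_instance) (by infer_instance) (RingHom.etale_algebraMap.2 inferInstance)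
  let F2 := ι2 F
  let h := σ F'
  have hrel : u * v - algebraMap A' P2 (-h) = F2 := hrel'
  let U := P2 ⧸ Ideal.span {F2}
  let j : B →+* U := RingHom.liftOfSurjective π.toRingHom hπ ⟨(Ideal.Quotient.mk _).comp ι2, by
    rw [hker, Ideal.span_le, Set.singleton_subset_iff]
    exact Ideal.Quotient.eq_zero_iff_mem.2 (Ideal.mem_span_singleton_self _)⟩
  have hj : j.comp π.toRingHom = (Ideal.Quotient.mk _).comp ι2 :=
    RingHom.liftOfSurjective_comp π.toRingHom hπ _
  let i : A' →+* U := (Ideal.Quotient.mk _).comp (algebraMap A' P2)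
  refine ⟨U, inferInstance, i, j, ?_, ?_, -h, ?_⟩
  · exact etale_of_surjective π.toRingHom hπ ι2 hι2 _ (by rw [hker, Ideal.map_span, Set.image_singleton]) j hj
  · refine RingHom.ext fun x => ?_
    show j (algebraMap A B x) = i (algebraMap A A' x)
    rw [← π.commutes x]
    refine (RingHom.congr_fun hj (algebraMap A P x)).trans (congrArg (Ideal.Quotient.mk _) ?_)
    show algebraMap P' P2 (ι (algebraMap A P x)) = algebraMap A' P2 (algebraMap A A' x)
    rw [ι.commutes, IsScalarTower.algebraMap_apply A A' P', ← IsScalarTower.algebraMap_apply A' P' P2]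
  let G : MvPolynomial (Fin 2) A' := X 0 * X 1 - C (-h)
  let e : MvPolynomial (Fin 2) A' →ₐ[A'] P2 := aeval ![u, v]
  have hG : e G = F2 := by
    rw [← hrel]; simp [e, G]
  let ψ : (MvPolynomial (Fin 2) A' ⧸ Ideal.span {G}) →+* U :=
    Ideal.quotientMap _ e.toRingHom (Ideal.map_le_iff_le_comap.1 (by
      rw [Ideal.map_span, Set.image_singleton]; exact le_of_eq (congrArg (fun x => Ideal.span {x}) hG)))
  refine ⟨ψ, ?_, ?_, Q.map (Ideal.Quotient.mk _), ?_, ?_⟩
  · refine etale_of_surjective (Ideal.Quotient.mk (Ideal.span {G})) Ideal.Quotient.mk_surjective e.toRingHom hc2 _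
      (by rw [Ideal.mk_ker, Ideal.map_span, Set.image_singleton]; exact congrArg (fun x => Ideal.span {x}) hG) ψ ?_
    exact RingHom.ext fun x => rfl
  · refine RingHom.ext fun x => ?_
    show ψ (Ideal.Quotient.mk (Ideal.span {G}) (C x)) = Ideal.Quotient.mk (Ideal.span {F2}) (algebraMap A' P2 x)
    rw [Ideal.quotientMap_mk]
    simp [e]
  all_goals
    have hι2Q : ∀ x, ι2 x ∈ Q ↔ x ∈ q := fun x => by
      rw [← Ideal.algebraMap_residueField_eq_zero (I := q), ← hχτ, ← hσι]
      show algebraMap P' P2 (ι x) ∈ Q ↔ _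
      rw [← Ideal.mem_comap, hQq]
      rfl
    have hle : RingHom.ker (Ideal.Quotient.mk (Ideal.span {F2})) ≤ Q := by
      rw [Ideal.mk_ker, Ideal.span_le, Set.singleton_subset_iff]
      exact (hι2Q F).2 hFq
  · exact Ideal.map_isPrime_of_surjective Ideal.Quotient.mk_surjective hle
  · ext x
    rw [Ideal.mem_comap, hj, RingHom.comp_apply]
    rw [← Ideal.mem_comap, Ideal.comap_map_of_surjective _ Ideal.Quotient.mk_surjective,
      sup_eq_left.2 (by rw [← RingHom.ker_eq_comap_bot]; exact hle)]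
    exact hι2Q x


/-- The étale local structure of a relative hypersurface at a nondegenerate critical point. -/
theorem exists_model {z : Fin 2 → P} {pd : Fin 2 → Derivation A P P} (hz : EtCoord A z)
    (hpd : ∀ i j, pd i (z j) = if i = j then 1 else 0) (F : P) {B : Type u} [CommRing B] [Algebra A B]
    (π : P →ₐ[A] B) (hπ : Function.Surjective π) (hker : RingHom.ker π.toRingHom = Ideal.span {F})
    (q : Ideal P) [q.IsPrime] (hFq : F ∈ q) (hdF : ∀ i, pd i F ∈ q)
    (hH : (Matrix.of fun i j => pd i (pd j F)).det ∉ q) :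
    ∃ (A' : Type u) (_ : CommRing A') (_ : Algebra A A') (_ : Algebra.Etale A A')
      (U : Type u) (_ : CommRing U) (i : A' →+* U) (j : B →+* U),
      j.Etale ∧ j.comp (algebraMap A B) = i.comp (algebraMap A A') ∧
      ∃ (a : A') (ψ : (MvPolynomial (Fin 2) A' ⧸
          Ideal.span {(MvPolynomial.X 0 * MvPolynomial.X 1 - MvPolynomial.C a : MvPolynomial (Fin 2) A')}) →+* U),
        ψ.Etale ∧ ψ.comp ((Ideal.Quotient.mk _).comp MvPolynomial.C) = i ∧
        ∃ Q : Ideal U, Q.IsPrime ∧ Q.comap (j.comp π.toRingHom) = q := by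
  let d := (Matrix.of fun i j => pd i (pd j F)).det
  let R := Localization.Away d
  have hg : EtCoord A (fun i => algebraMap P R (pd i F)) := hz.of_det_away hpd (fun i => pd i F) d dvd_rfl
  let Jg : Ideal R := Ideal.span (Set.range fun i => algebraMap P R (pd i F))
  let A' := R ⧸ Jg
  haveI : Algebra.Etale A A' := hg.etale_quotient
  let τ : P →ₐ[A] A' := (Ideal.Quotient.mkₐ A Jg).comp (IsScalarTower.toAlgHom A P R)
  -- the residue field valued point
  let κ := q.ResidueField
  let χ0 : R →+* κ := IsLocalization.Away.lift d (g := algebraMap P κ)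
    (isUnit_iff_ne_zero.2 fun h => hH (Ideal.algebraMap_residueField_eq_zero.1 h))
  have hχ0 : ∀ x, χ0 (algebraMap P R x) = algebraMap P κ x := fun x => IsLocalization.Away.lift_eq ..
  let χ : A' →+* κ := Ideal.Quotient.lift Jg χ0 (fun x hx => by
    have : Jg ≤ RingHom.ker χ0 := Ideal.span_le.2 (by
      rintro _ ⟨i, rfl⟩
      exact (hχ0 _).trans (Ideal.algebraMap_residueField_eq_zero.2 (hdF i)))
    exact this hx)
  have hχτ : ∀ x, χ (τ x) = algebraMap P κ x := fun x => hχ0 x
  obtain ⟨U, hU, rest⟩ := exists_model_aux hz hpd F π hπ hker q hFq hdF hH τ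
    (fun i => Ideal.Quotient.eq_zero_iff_mem.2 (Ideal.subset_span ⟨i, rfl⟩)) χ hχτ
  exact ⟨A', inferInstance, inferInstance, inferInstance, U, hU, rest⟩

end Groth.Agent.NodalEtale14
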