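import Groth.Agent.Lib.NodalEtale14.Local
import Groth.Agent.Lib.NodalCrit14.Locus
import Groth.Agent.Lib.CI2.NearFibre
import Groth.Agent.Lib.Fitting26.Sheaf
import Groth.Agent.S6570
import Groth.Agent.S9364

/-!
# Charts of nodal families
-/

set_option autoImplicit false
set_option linter.style.haveILetI false
set_option backward.isDefEq.respectTransparency.types false

universe u

open CategoryTheory CategoryTheory.Limits AlgebraicGeometry TensorProduct

noncomputable section

namespace Groth.Agent.NodalEtale14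

/-- The Fitting ideal of the differentials is insensitive to isomorphisms of rings. -/
theorem fitting_iso {A B A' T : Type u} [CommRing A] [CommRing B] [CommRing A'] [CommRing T] [Algebra A B]
    [Algebra A A'] [Algebra A' T] [Algebra B T] [Algebra A T] [IsScalarTower A A' T] [IsScalarTower A B T]
    [Algebra.FiniteType A B] (hA : Function.Surjective (algebraMap A A')) (hB : Function.Bijective (algebraMap B T)) :
    Fitt.ideal T Ω[T⁄A'] 1 = (Fitt.ideal B Ω[B⁄A] 1).map (algebraMap B T) := by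
  haveI : Algebra.Etale B T := RingHom.etale_algebraMap.1 (RingHom.Etale.of_bijective hB)
  let e1 : T ⊗[B] Ω[B⁄A] ≃ₗ[T] Ω[T⁄A] := KaehlerDifferential.tensorKaehlerEquivOfFormallyEtale A B T
  have hsub : Subsingleton Ω[A'⁄A] := by
    haveI : Algebra.FormallyUnramified A A' := Algebra.FormallyUnramified.of_surjective (Algebra.ofId A A') hA
    infer_instance
  have hinj : Function.Injective (KaehlerDifferential.map A A' T T) := by
    refine (injective_iff_map_eq_zero _).2 fun x hx => ?_
    obtain ⟨y, rfl⟩ := (KaehlerDifferential.exact_mapBaseChange_map A A' T x).1 hx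
    rw [show y = 0 from Subsingleton.elim _ _, map_zero]
  let e2 : Ω[T⁄A] ≃ₗ[T] Ω[T⁄A'] := LinearEquiv.ofBijective
    (KaehlerDifferential.map A A' T T) ⟨hinj, KaehlerDifferential.map_surjective A A' T⟩
  rw [← FittingLib.ideal_congr (e1.trans e2) 1, FittingLib.ideal_baseChange]

/-- The first Fitting ideal of an affine nodal family is unramified. -/
theorem formallyUnramified_fitting {A B : Type u} [CommRing A] [CommRing B] [Algebra A B]
    [Algebra.FinitePresentation A B] (h : Curv2.IsNodalFamily (Spec.map (CommRingCat.ofHom (algebraMap A B)))) :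
    Algebra.FormallyUnramified A (B ⧸ Fitt.ideal B Ω[B⁄A] 1) := by
  let g := Spec.map (CommRingCat.ofHom (algebraMap A B))
  have hX := isAffineOpen_top (Spec (CommRingCat.of B))
  have hS := isAffineOpen_top (Spec (CommRingCat.of A))
  have hle : (⊤ : (Spec (CommRingCat.of B)).Opens) ≤ g ⁻¹ᵁ ⊤ := le_top
  let A' := Γ(Spec (CommRingCat.of A), ⊤)
  let T := Γ(Spec (CommRingCat.of B), ⊤)
  haveI : LocallyOfFiniteType g :=
    (HasRingHomProperty.Spec_iff (P := @LocallyOfFiniteType)).2 (RingHom.finiteType_algebraMap.2 inferInstance)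
  letI : Algebra A' T := (g.appLE ⊤ ⊤ hle).hom.toAlgebra
  letI : Algebra A A' := (Scheme.ΓSpecIso (CommRingCat.of A)).inv.hom.toAlgebra
  letI : Algebra B T := (Scheme.ΓSpecIso (CommRingCat.of B)).inv.hom.toAlgebra
  letI : Algebra A T := ((algebraMap B T).comp (algebraMap A B)).toAlgebra
  haveI : IsScalarTower A B T := IsScalarTower.of_algebraMap_eq' rfl
  haveI : IsScalarTower A A' T := IsScalarTower.of_algebraMap_eq' (by
    show (CommRingCat.ofHom (algebraMap A B) ≫ (Scheme.ΓSpecIso (CommRingCat.of B)).inv).hom =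
      ((Scheme.ΓSpecIso (CommRingCat.of A)).inv ≫ g.appLE ⊤ ⊤ hle).hom
    congr 1
    rw [show g.appLE ⊤ ⊤ hle = g.appTop from Scheme.Hom.appLE_eq_app _]
    exact Scheme.ΓSpecIso_inv_naturality _)
  haveI : Algebra.FiniteType A' T := g.finiteType_appLE hS hX hle
  have hF : (Fitt.sheafIdeal (Omega.sheaf g) 1).ideal ⟨⊤, hX⟩ =
      (Fitt.ideal B Ω[B⁄A] 1).map (algebraMap B T) := by
    haveI : Module.Finite T Γ(Omega.sheaf g, ⊤) := Module.Finite.equiv (Omega26.sectEquiv g hX hS hle)
    rw [Fitting26.sheafIdeal_ideal (Omega26.isQCoh g) (Omega26.isFT g)]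
    refine (FittingLib.ideal_congr (Omega26.sectEquiv g hX hS hle) 1).symm.trans ?_
    exact fitting_iso (ConcreteCategory.bijective_of_isIso (Scheme.ΓSpecIso (CommRingCat.of A)).inv).2
      (ConcreteCategory.bijective_of_isIso (Scheme.ΓSpecIso (CommRingCat.of B)).inv)
  obtain ⟨-, -, hu⟩ := (S6570.result g).1 h
  let I := Fitt.sheafIdeal (Omega.sheaf g) 1
  let U : (Spec (CommRingCat.of B)).affineOpens := ⟨⊤, hX⟩
  haveI : IsOpenImmersion (I.subschemeCover.f U) := inferInstance
  have h1 : FormallyUnramified (I.subschemeCover.f U ≫ I.subschemeι ≫ g) :=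
    haveI := hu
    MorphismProperty.comp_mem _ _ _ inferInstance inferInstance
  let m : CommRingCat.of A ⟶ CommRingCat.of (T ⧸ I.ideal U) :=
    CommRingCat.ofHom ((Ideal.Quotient.mk (I.ideal U)).comp (algebraMap A T))
  have h2 : I.subschemeCover.f U ≫ I.subschemeι ≫ g = Spec.map m := by
    rw [← Category.assoc, Scheme.IdealSheafData.subschemeCover_map_subschemeι]
    have hd : I.glueDataObjι U ≫ U.1.ι = Spec.map (CommRingCat.ofHom (Ideal.Quotient.mk (I.ideal U))) ≫ hX.fromSpec := rfl
    rw [hd, IsAffineOpen.fromSpec_top, Scheme.isoSpec_Spec_inv, ← Spec.map_comp]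
    refine (Spec.map_comp _ _).symm.trans ?_
    rfl
  rw [h2] at h1
  have h1' := (HasRingHomProperty.Spec_iff (P := @FormallyUnramified) (φ := m)).1 h1
  letI : Algebra A (T ⧸ I.ideal U) := m.hom.toAlgebra
  haveI : Algebra.FormallyUnramified A (T ⧸ I.ideal U) := h1'
  let ψ : B →ₐ[A] T ⧸ I.ideal U :=
    { (Ideal.Quotient.mk (I.ideal U)).comp (algebraMap B T) with
      commutes' := fun a => rfl }
  have hsurj : Function.Surjective ψ := Ideal.Quotient.mk_surjective.comp
    (ConcreteCategory.bijective_of_isIso (Scheme.ΓSpecIso (CommRingCat.of B)).inv).2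
  have hk : RingHom.ker ψ.toRingHom = Fitt.ideal B Ω[B⁄A] 1 := by
    show RingHom.ker ((Ideal.Quotient.mk (I.ideal U)).comp (algebraMap B T)) = _
    rw [← RingHom.comap_ker, Ideal.mk_ker, hF]
    exact Ideal.comap_map_of_bijective _ (ConcreteCategory.bijective_of_isIso (Scheme.ΓSpecIso (CommRingCat.of B)).inv)
  exact Algebra.FormallyUnramified.of_equiv
    ((Ideal.quotientKerAlgEquivOfSurjective hsurj).symm.trans (Ideal.quotientEquivAlgOfEq A hk))

/-- Every point of a nodal family lies on a chart which is a relative complete intersection of relative dimension at least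
one with unramified first Fitting ideal. -/
theorem exists_gci_chart {X S : Scheme.{u}} (f : X ⟶ S) (hf : Curv2.IsNodalFamily f) (x : X) :
    ∃ (R : Type u) (_ : CommRing R) (n c : ℕ) (F : Fin c → MvPolynomial (Fin n) R)
      (jX : Spec (CommRingCat.of (RR F)) ⟶ X) (_ : IsOpenImmersion jX)
      (jS : Spec (CommRingCat.of R) ⟶ S) (_ : IsOpenImmersion jS) (y : Spec (CommRingCat.of (RR F))),
      jX ≫ f = Spec.map (CommRingCat.ofHom (algebraMap R (RR F))) ≫ jS ∧ jX y = x ∧ c + 1 ≤ n ∧
      Algebra.FormallyUnramified R (RR F ⧸ Fitt.ideal (RR F) Ω[(RR F)⁄R] 1) := by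
  obtain ⟨hflat, hlfp, hall⟩ := (NodalCrit14.isNodalFamily_iff f).1 hf
  obtain ⟨hflat', hlfp', -⟩ := id hf
  obtain ⟨V, hV, hxV, -⟩ := exists_isAffineOpen_mem_and_subset (X := S) (x := f x) (U := ⊤) trivial
  have hs : Synt.IsSyntomicAt f x := by
    obtain ⟨W, hW, hxW, hd⟩ := NodalCrit14.exists_affine_ciOne f (NodalCrit14.ciOne_of_nodalPt f (hall x))
    refine ((S9758.result f).1 ⟨inferInstance, (S8660.result f).2 ⟨inferInstance, inferInstance, fun p => ?_⟩⟩) x
    exact NodalCrit14.ci_of_good f (hall p).1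
  obtain ⟨U, hle, hxU, R, _, n, c, F, hF, e₁, e₂, he⟩ := (S9364.result f x ⟨V, hV⟩ hxV).1 hs
  let B := RR F
  let g := Spec.map (CommRingCat.ofHom (algebraMap R B))
  let jX : Spec (CommRingCat.of B) ⟶ X := e₁.inv ≫ U.1.ι
  let jS : Spec (CommRingCat.of R) ⟶ S := e₂.inv ≫ V.ι
  have hcomm : jX ≫ f = g ≫ jS := by
    have h1 : e₁.inv ≫ f.resLE V U.1 hle = g ≫ e₂.inv := by
      rw [Iso.inv_comp_eq, ← Category.assoc, Iso.eq_comp_inv]
      exact he.symm
    show (e₁.inv ≫ U.1.ι) ≫ f = g ≫ e₂.inv ≫ V.ι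
    rw [Category.assoc, ← Scheme.Hom.resLE_comp_ι f hle, ← Category.assoc, h1, Category.assoc]
  haveI : Algebra.FinitePresentation R B := Algebra.FinitePresentation.quotient (Submodule.fg_span (Set.finite_range F))
  haveI : LocallyOfFinitePresentation g :=
    (HasRingHomProperty.Spec_iff (P := @LocallyOfFinitePresentation)).2 (RingHom.finitePresentation_algebraMap.2 inferInstance)
  have sq : IsPullback (𝟙 _) g (g ≫ jS) jS :=
    IsPullback.of_horiz_isIso_mono ⟨by rw [Category.id_comp]⟩
  haveI : Flat g := MorphismProperty.of_isPullback sq (by rw [← hcomm]; infer_instance)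
  have hnd : ∀ z, NodalCrit14.NodalPt g z := fun z => by
    haveI : Flat (g ≫ jS) := by rw [← hcomm]; infer_instance
    haveI : LocallyOfFinitePresentation (g ≫ jS) := inferInstance
    rw [NodalCrit14.nodalPt_bc (g ≫ jS) sq z]
    have h1 := (NodalCrit14.nodalPt_comp f jX z).2 (hall _)
    simp only [hcomm] at h1
    exact h1
  have hgf : Curv2.IsNodalFamily g := (NodalCrit14.isNodalFamily_iff g).2 ⟨inferInstance, inferInstance, hnd⟩
  let y : Spec (CommRingCat.of B) := e₁.hom ⟨x, hxU⟩
  have hyx : jX y = x := by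
    show (e₁.hom ≫ e₁.inv ≫ U.1.ι) ⟨x, hxU⟩ = x
    rw [Iso.hom_inv_id_assoc]; rfl
  refine ⟨R, inferInstance, n, c, F, jX, inferInstance, jS, inferInstance, y, hcomm, hyx, ?_,
    formallyUnramified_fitting hgf⟩
  -- the relative dimension is at least one
  let p : PrimeSpectrum R := PrimeSpectrum.comap (algebraMap R B) y
  obtain ⟨w, hw⟩ : ∃ w : PrimeSpectrum (p.asIdeal.Fiber B),
      PrimeSpectrum.comap (Algebra.TensorProduct.includeRight : B →ₐ[R] p.asIdeal.Fiber B).toRingHom w = y :=
    ⟨PrimeSpectrum.preimageHomeomorphFiber R B p ⟨y, rfl⟩,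
      congrArg Subtype.val ((PrimeSpectrum.preimageHomeomorphFiber R B p).symm_apply_apply ⟨y, rfl⟩)⟩
  haveI : Nontrivial (p.asIdeal.Fiber B) := w.nontrivial
  obtain ⟨hcn, hdim⟩ := hF p inferInstance
  have h1 : (1 : WithBot ℕ∞) ≤ ((n - c : ℕ) : WithBot ℕ∞) := by
    rw [← (hnd y).2, ← hw, ← CI2.localDim_fibre_eq, ← hdim, ← PrimeSpectrum.topologicalKrullDim_eq_ringKrullDim]
    exact TopDimLib.localDim_le w
  have h2 : 1 ≤ n - c := by exact_mod_cast h1
  omega

end Groth.Agent.NodalEtale14
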