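import Groth.Agent.Lib.NodalEtale14.Coord
import Mathlib.RingTheory.Nakayama
import Mathlib.RingTheory.Etale.StandardEtale
import Mathlib.LinearAlgebra.Matrix.Determinant.Basic
import Mathlib.FieldTheory.IsAlgClosed.AlgebraicClosure

/-!
# Functions critical along a section, and splitting of quadratic forms
-/

set_option autoImplicit false
set_option linter.style.haveILetI false

universe u

open MvPolynomial

noncomputable section

namespace Groth.Agent.NodalEtale14

variable {A P : Type u} [CommRing A] [CommRing P] [Algebra A P]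

/-- The translated coordinates of a section. -/
def shift {n : ℕ} (σ : P →ₐ[A] A) (z : Fin n → P) (i : Fin n) : P := z i - algebraMap A P (σ (z i))

theorem map_shift {n : ℕ} (σ : P →ₐ[A] A) (z : Fin n → P) (i : Fin n) : σ (shift σ z i) = 0 := by
  simp [shift]

variable {n : ℕ} {z : Fin n → P} {pd : Fin n → Derivation A P P}

/-- Expansion to first order along a section. -/
theorem sub_expand (hz : EtCoord A z) (hpd : ∀ i j, pd i (z j) = if i = j then 1 else 0) (σ : P →ₐ[A] A) (x : P) :
    x - algebraMap A P (σ x) - ∑ i, pd i x * shift σ z i ∈ RingHom.ker σ.toRingHom ^ 2 := by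
  let K := RingHom.ker σ.toRingHom
  let δ0 : P →ₗ[A] P ⧸ K ^ 2 :=
    (Ideal.Quotient.mkₐ A (K ^ 2)).toLinearMap ∘ₗ (LinearMap.id - (Algebra.linearMap A P) ∘ₗ σ.toLinearMap)
  have hδ0 : ∀ y, δ0 y = Ideal.Quotient.mk (K ^ 2) (y - algebraMap A P (σ y)) := fun y => rfl
  let δ : Derivation A P (P ⧸ K ^ 2) := Derivation.mk' δ0 fun a b => by
    rw [hδ0, hδ0, hδ0, Algebra.smul_def, Algebra.smul_def, Ideal.Quotient.algebraMap_eq, ← map_mul, ← map_mul,
      ← map_add, Ideal.Quotient.eq, map_mul σ, map_mul (algebraMap A P)]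
    have h : (a - algebraMap A P (σ a)) * (b - algebraMap A P (σ b)) ∈ K ^ 2 := by
      rw [pow_two]
      exact Ideal.mul_mem_mul (by simp [K]) (by simp [K])
    convert neg_mem h using 1
    ring
  have h := hz.expand hpd δ x
  change δ0 x = ∑ i, pd i x • δ0 (z i) at h
  rw [hδ0] at h
  rw [← Ideal.Quotient.eq_zero_iff_mem, map_sub, h, sub_eq_zero, map_sum]
  exact Finset.sum_congr rfl fun i _ => by
    rw [hδ0, map_mul, Algebra.smul_def, Ideal.Quotient.algebraMap_eq]; rfl

/-- Near a section its ideal is generated by the translated coordinates. -/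
theorem exists_smul_ker_le (hz : EtCoord A z) (hpd : ∀ i j, pd i (z j) = if i = j then 1 else 0)
    (σ : P →ₐ[A] A) :
    ∃ g, σ g = 1 ∧ ∀ x ∈ RingHom.ker σ.toRingHom, g * x ∈ Ideal.span (Set.range (shift σ z)) := by
  haveI := hz.smooth
  have hfg : (RingHom.ker σ.toRingHom).FG :=
    Algebra.FinitePresentation.ker_fG_of_surjective σ fun a => ⟨algebraMap A P a, σ.commutes a⟩
  obtain ⟨r, hr, hle⟩ := Submodule.exists_sub_one_mem_and_smul_le_of_fg_of_le_sup
    (I := RingHom.ker σ.toRingHom) (N := Ideal.span (Set.range (shift σ z)))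
    (N' := RingHom.ker σ.toRingHom) (P := RingHom.ker σ.toRingHom) hfg le_rfl (by
      intro x hx
      have h1 := sub_expand hz hpd σ x
      rw [show σ x = 0 from hx, map_zero, sub_zero, pow_two] at h1
      refine Submodule.mem_sup.2 ⟨∑ i, pd i x * shift σ z i, ?_, x - ∑ i, pd i x * shift σ z i, ?_, by ring⟩
      · exact Submodule.sum_mem _ fun i _ => Ideal.mul_mem_left _ _ (Ideal.subset_span ⟨i, rfl⟩)
      · rw [smul_eq_mul]; exact h1)
  refine ⟨r, ?_, fun x hx => hle (Submodule.smul_mem_pointwise_smul x r _ hx)⟩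
  have h := (RingHom.mem_ker).1 hr
  simpa [sub_eq_zero] using h

/-- A function critical along a section is quadratic in the translated coordinates. -/
theorem exists_quadratic {z : Fin 2 → P} {pd : Fin 2 → Derivation A P P} (hz : EtCoord A z)
    (hpd : ∀ i j, pd i (z j) = if i = j then 1 else 0) (σ : P →ₐ[A] A) (F : P) (hF : ∀ i, σ (pd i F) = 0) :
    ∃ g a b c : P, σ g = 1 ∧ (g * g) * (F - algebraMap A P (σ F)) =
        a * shift σ z 0 ^ 2 + b * (shift σ z 0 * shift σ z 1) + c * shift σ z 1 ^ 2 ∧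
      σ (b ^ 2 - 4 * a * c) = -σ ((Matrix.of fun i j => pd i (pd j F)).det) := by
  obtain ⟨g, hg, hgK⟩ := exists_smul_ker_le hz hpd σ
  let K := RingHom.ker σ.toRingHom
  have h2 : F - algebraMap A P (σ F) ∈ K ^ 2 := by
    have h1 := sub_expand hz hpd σ F
    have h3 : ∑ i, pd i F * shift σ z i ∈ K ^ 2 := by
      rw [pow_two]
      exact Submodule.sum_mem _ fun i _ => Ideal.mul_mem_mul (hF i) (map_shift σ z i)
    simpa [K] using add_mem h1 h3
  let w := shift σ z
  have hquad : ∀ y ∈ K * K, ∃ a b c : P, (g * g) * y = a * w 0 ^ 2 + b * (w 0 * w 1) + c * w 1 ^ 2 := by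
    intro y hy
    induction hy using Submodule.mul_induction_on' with
    | mem_mul_mem x hx x' hx' =>
      obtain ⟨s, hs⟩ := Ideal.mem_span_range_iff_exists_fun.1 (hgK x hx)
      obtain ⟨t, ht⟩ := Ideal.mem_span_range_iff_exists_fun.1 (hgK x' hx')
      rw [Fin.sum_univ_two] at hs ht
      exact ⟨s 0 * t 0, s 0 * t 1 + s 1 * t 0, s 1 * t 1, by
        linear_combination (-(g * x') : P) * hs - (s 0 * w 0 + s 1 * w 1) * ht⟩
    | add x _ x' _ hx hx' =>
      obtain ⟨a, b, c, h⟩ := hx
      obtain ⟨a', b', c', h'⟩ := hx'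
      exact ⟨a + a', b + b', c + c', by linear_combination h + h'⟩
  obtain ⟨a, b, c, habc⟩ := hquad _ (pow_two K ▸ h2)
  refine ⟨g, a, b, c, hg, habc, ?_⟩
  have hwK : ∀ i, σ (w i) = 0 := map_shift σ z
  have hdw : ∀ i j, pd i (w j) = if i = j then 1 else 0 := fun i j => by simp [w, shift, hpd]
  have key : ∀ i j, σ (pd i (pd j ((g * g) * (F - algebraMap A P (σ F))))) =
      σ (pd i (pd j (a * w 0 ^ 2 + b * (w 0 * w 1) + c * w 1 ^ 2))) := fun i j => by rw [habc]
  have e00 := key 0 0
  have e01 := key 0 1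
  have e10 := key 1 0
  have e11 := key 1 1
  simp [pow_two, Derivation.leibniz, hdw, hwK, hF, hg] at e00 e01 e10 e11
  rw [Matrix.det_fin_two]
  simp only [Matrix.of_apply, map_sub, map_mul, map_pow, map_ofNat, e00, e01, e10, e11]
  ring

/-- Étale locally a nondegenerate quadratic form in two coordinates splits. -/
theorem exists_split {z w : Fin 2 → P} {pd : Fin 2 → Derivation A P P} (hz : EtCoord A z)
    (hpd : ∀ i j, pd i (z j) = if i = j then 1 else 0) (hdw : ∀ i j, pd i (w j) = if i = j then 1 else 0)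
    (a b c : P) (q : Ideal P) [q.IsPrime] (hw : ∀ i, w i ∈ q) (ha : a ∉ q) (hD : b ^ 2 - 4 * a * c ∉ q) :
    ∃ (P' : Type u) (_ : CommRing P') (_ : Algebra A P') (_ : Algebra P P') (_ : IsScalarTower A P P')
      (_ : Algebra.Etale P P') (u v : P') (Q : Ideal P'), Q.IsPrime ∧ Q.comap (algebraMap P P') = q ∧
      EtCoord A ![u, v] ∧ u * v = algebraMap P P' (a * w 0 ^ 2 + b * (w 0 * w 1) + c * w 1 ^ 2) := by
  let R1 := Localization.Away a
  let β := algebraMap P R1 b
  let γ := algebraMap P R1 (a * c)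
  let S : StandardEtalePair R1 :=
    { f := Polynomial.X ^ 2 + Polynomial.C β * Polynomial.X + Polynomial.C γ
      monic_f := by monicity!
      g := Polynomial.derivative (Polynomial.X ^ 2 + Polynomial.C β * Polynomial.X + Polynomial.C γ)
      cond := ⟨1, 0, 1, by simp⟩ }
  -- a geometric point over `q`
  let Ω := AlgebraicClosure q.ResidueField
  let χ : P →+* Ω := (algebraMap q.ResidueField Ω).comp (algebraMap P q.ResidueField)
  have hχ : ∀ x, χ x = 0 ↔ x ∈ q := fun x => by
    simp [χ, Ideal.algebraMap_residueField_eq_zero]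
  let χ1 : R1 →+* Ω := IsLocalization.Away.lift a (g := χ) (isUnit_iff_ne_zero.2 fun h => ha ((hχ a).1 h))
  have hχ1 : ∀ x, χ1 (algebraMap P R1 x) = χ x := fun x => IsLocalization.Away.lift_eq ..
  letI : Algebra R1 Ω := χ1.toAlgebra
  obtain ⟨s, hs⟩ := IsAlgClosed.exists_root (Polynomial.X ^ 2 + Polynomial.C (χ1 β) * Polynomial.X + Polynomial.C (χ1 γ))
    (by
      have : (Polynomial.X ^ 2 + Polynomial.C (χ1 β) * Polynomial.X + Polynomial.C (χ1 γ)).natDegree = 2 := by
        compute_degree!
      intro h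
      rw [Polynomial.degree_eq_natDegree (fun h0 => by simp [h0] at this), this] at h
      simp at h)
  simp only [Polynomial.IsRoot, Polynomial.eval_add, Polynomial.eval_pow, Polynomial.eval_X, Polynomial.eval_mul,
    Polynomial.eval_C] at hs
  have hder : 2 * s + χ1 β ≠ 0 := by
    intro h
    refine hD ((hχ _).1 ?_)
    have h1 : χ1 γ = χ a * χ c := by simp [γ, hχ1]
    have h2 : χ1 β = χ b := hχ1 b
    rw [map_sub, map_mul, map_mul, map_pow, map_ofNat]
    rw [h1, h2] at hs
    rw [h2] at h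
    linear_combination (2 * s + χ b) * h - 4 * hs
  have hmap : S.HasMap s := by
    constructor
    · simp [S, RingHom.algebraMap_toAlgebra]
      linear_combination hs
    · simp [S, RingHom.algebraMap_toAlgebra]
      rw [one_add_one_eq_two]
      exact hder.isUnit
  let R2 := S.Ring
  letI : Algebra P R2 := ((algebraMap R1 R2).comp (algebraMap P R1)).toAlgebra
  haveI : IsScalarTower P R1 R2 := IsScalarTower.of_algebraMap_eq' rfl
  letI : Algebra A R2 := ((algebraMap P R2).comp (algebraMap A P)).toAlgebra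
  haveI : IsScalarTower A P R2 := IsScalarTower.of_algebraMap_eq' rfl
  haveI : Algebra.Etale P R1 := Algebra.Etale.of_isLocalizationAway a
  haveI : Algebra.Etale P R2 := Algebra.Etale.comp P R1 R2
  have hz2 : EtCoord A (fun i => algebraMap P R2 (z i)) :=
    hz.etale (IsScalarTower.toAlgHom A P R2) (RingHom.etale_algebraMap.2 ‹_›)
  obtain ⟨pd2, hpd2⟩ := hz2.exists_deriv
  have hcompat : ∀ i x, pd2 i (algebraMap P R2 x) = algebraMap P R2 (pd i x) := hz.deriv_map hpd hpd2
  let T := S.X
  have hroot : T ^ 2 + algebraMap P R2 b * T + algebraMap P R2 a * algebraMap P R2 c = 0 := by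
    have := S.hasMap_X.1
    simp only [S, map_add, map_pow, map_mul, Polynomial.aeval_X, Polynomial.aeval_C] at this
    simpa [β, γ, ← IsScalarTower.algebraMap_apply, map_mul] using this
  obtain ⟨ia, hia⟩ : ∃ ia, algebraMap P R2 a * ia = 1 := by
    obtain ⟨y, hy⟩ := isUnit_iff_exists_inv.1 (IsLocalization.Away.algebraMap_isUnit (S := R1) a)
    exact ⟨algebraMap R1 R2 y, by rw [IsScalarTower.algebraMap_apply P R1 R2, ← map_mul, hy, map_one]⟩
  let W : Fin 2 → R2 := fun i => algebraMap P R2 (w i)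
  let u : R2 := W 0 - T * ia * W 1
  let v : R2 := algebraMap P R2 a * W 0 + (algebraMap P R2 b + T) * W 1
  have huv : u * v = algebraMap P R2 (a * w 0 ^ 2 + b * (w 0 * w 1) + c * w 1 ^ 2) := by
    simp only [map_add, map_mul, map_pow, u, v, W]
    linear_combination (algebraMap P R2 c * algebraMap P R2 (w 1) ^ 2 - T * algebraMap P R2 (w 0) * algebraMap P R2 (w 1)) * hia
      - ia * algebraMap P R2 (w 1) ^ 2 * hroot
  let θ : R2 →+* Ω := (S.lift s hmap).toRingHom
  have hθ : ∀ x, θ (algebraMap P R2 x) = χ x := fun x => by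
    show S.lift s hmap (algebraMap R1 R2 (algebraMap P R1 x)) = χ x
    rw [AlgHom.commutes]
    exact hχ1 x
  have hθT : θ T = s := S.lift_X s hmap
  let M : Matrix (Fin 2) (Fin 2) R2 := Matrix.of fun i j => pd2 i (![u, v] j)
  let R3 := Localization.Away M.det
  have hθM : θ M.det ≠ 0 := by
    have hw0 : ∀ i, θ (W i) = 0 := fun i => (hθ _).trans ((hχ _).2 (hw i))
    have hia' : θ ia * χ a = 1 := by rw [← hθ, ← map_mul, mul_comm, hia, map_one]
    have hdW : ∀ i j, pd2 i (W j) = if i = j then 1 else 0 := fun i j => by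
      simp only [W, hcompat, hdw]; split_ifs <;> simp
    have : θ M.det = 2 * s + χ1 β := by
      rw [Matrix.det_fin_two]
      simp [M, u, v, Derivation.leibniz, hdW, hw0, hθT, hθ, show χ1 β = χ b from hχ1 b]
      linear_combination s * hia'
    rwa [this]
  have hc3 := hz2.of_det_away hpd2 ![u, v] M.det dvd_rfl
  haveI : Algebra.Etale R2 R3 := Algebra.Etale.of_isLocalizationAway M.det
  haveI : Algebra.Etale P R3 := Algebra.Etale.comp P R2 R3
  let θ3 : R3 →+* Ω := IsLocalization.Away.lift M.det (g := θ) (isUnit_iff_ne_zero.2 hθM)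
  refine ⟨R3, inferInstance, inferInstance, inferInstance, inferInstance, inferInstance,
    algebraMap R2 R3 u, algebraMap R2 R3 v, RingHom.ker θ3, RingHom.ker_isPrime _, ?_, ?_, ?_⟩
  · ext x
    rw [Ideal.mem_comap, RingHom.mem_ker, IsScalarTower.algebraMap_apply P R2 R3,
      IsLocalization.Away.lift_eq, hθ, hχ]
  · convert hc3 using 1
    funext i
    fin_cases i <;> rfl
  · rw [← map_mul, huv, ← IsScalarTower.algebraMap_apply]

end Groth.Agent.NodalEtale14
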